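import Cfsg.Agent.SpMult50.RootQ

/-!
To see that a prime does not divide the kernel of a stem extension it is enough to treat kernels of
that prime exponent (helper50).
-/

set_option autoImplicit false

namespace Cfsg.Agent.SpMult50

universe u v

/-- If no stem extension has a nontrivial kernel of exponent `2`, none has a kernel of even order. -/
theorem not_two_dvd_card_ker {G : Type u} [Group G]
    {Γ : Type v} [Group Γ] [Finite Γ] (σ : Γ →* G) (hσ : Cfsg.IsStemExtension σ)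
    (h : ∀ (Δ : Type v) [Group Δ] [Finite Δ] (τ : Δ →* G) (f : Γ →* Δ), τ.comp f = σ →
      Cfsg.IsStemExtension τ → (∀ z ∈ τ.ker, z ^ 2 = 1) → ¬ 2 ∣ Nat.card τ.ker) :
    ¬ 2 ∣ Nat.card σ.ker := by
  intro hd
  have hcomm : ∀ a ∈ σ.ker, ∀ b : Γ, Commute a b := fun a ha b =>
    (Subgroup.mem_center_iff.1 (hσ.2.1 ha) b).symm
  let K : Subgroup Γ :=
    { carrier := {g | ∃ c ∈ σ.ker, g = c ^ 2}
      one_mem' := ⟨1, one_mem _, (one_pow 2).symm⟩
      mul_mem' := by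
        rintro _ _ ⟨a, ha, rfl⟩ ⟨b, hb, rfl⟩
        exact ⟨a * b, mul_mem ha hb, ((hcomm a ha b).mul_pow 2).symm⟩
      inv_mem' := by
        rintro _ ⟨a, ha, rfl⟩
        exact ⟨a⁻¹, inv_mem ha, (inv_pow a 2).symm⟩ }
  have hKn : K.Normal := by
    refine ⟨?_⟩
    rintro _ ⟨a, ha, rfl⟩ g
    refine ⟨a, ha, ?_⟩
    rw [← ((hcomm a ha g).pow_left 2).eq, mul_inv_cancel_right]
  have hK : K ≤ σ.ker := by
    rintro _ ⟨a, ha, rfl⟩
    exact pow_mem ha 2
  let τ : Γ ⧸ K →* G := QuotientGroup.lift K σ hK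
  have hτ : ∀ g : Γ, τ (g : Γ ⧸ K) = σ g := fun g => rfl
  have hker : ∀ x ∈ τ.ker, ∃ g ∈ σ.ker, (g : Γ ⧸ K) = x := by
    intro x hx
    obtain ⟨g, rfl⟩ := QuotientGroup.mk_surjective x
    exact ⟨g, by rw [MonoidHom.mem_ker, ← hτ]; exact hx, rfl⟩
  have hstem : Cfsg.IsStemExtension τ := by
    refine ⟨fun y => ?_, fun x hx => ?_, fun x hx => ?_⟩
    · obtain ⟨g, rfl⟩ := hσ.1 y
      exact ⟨g, hτ g⟩
    · obtain ⟨g, hg, rfl⟩ := hker x hx
      refine Subgroup.mem_center_iff.2 fun y => ?_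
      obtain ⟨b, rfl⟩ := QuotientGroup.mk_surjective y
      rw [← QuotientGroup.mk_mul, ← QuotientGroup.mk_mul, (hcomm g hg b).eq]
    · obtain ⟨g, hg, rfl⟩ := hker x hx
      have hmem : (g : Γ ⧸ K) ∈ (commutator Γ).map (QuotientGroup.mk' K) := ⟨g, hσ.2.2 hg, rfl⟩
      rw [_root_.commutator_def, Subgroup.map_commutator,
        Subgroup.map_top_of_surjective _ (QuotientGroup.mk'_surjective K),
        ← _root_.commutator_def] at hmem
      exact hmem
  have hexp : ∀ z ∈ τ.ker, z ^ 2 = 1 := by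
    intro x hx
    obtain ⟨g, hg, rfl⟩ := hker x hx
    rw [← QuotientGroup.mk_pow, QuotientGroup.eq_one_iff]
    exact ⟨g, hg, rfl⟩
  have hbot : ∀ z ∈ τ.ker, z = 1 := by
    intro z hz
    by_contra hne
    refine h (Γ ⧸ K) τ (QuotientGroup.mk' K) (MonoidHom.ext hτ) hstem hexp ?_
    have ho : orderOf (⟨z, hz⟩ : τ.ker) = 2 := by
      rw [Subgroup.orderOf_mk]
      exact orderOf_eq_prime (hexp z hz) hne
    rw [← ho]
    exact orderOf_dvd_natCard _
  let sq : σ.ker → σ.ker := fun c => ⟨(c : Γ) ^ 2, pow_mem c.2 2⟩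
  have hsurj : Function.Surjective sq := by
    rintro ⟨g, hg⟩
    have hgK : g ∈ K := by
      rw [← QuotientGroup.eq_one_iff]
      exact hbot _ (by rw [MonoidHom.mem_ker, hτ]; exact hg)
    obtain ⟨c, hc, rfl⟩ := hgK
    exact ⟨⟨c, hc⟩, rfl⟩
  obtain ⟨⟨w, hw⟩, hord⟩ := exists_prime_orderOf_dvd_card' (hp := ⟨Nat.prime_two⟩) 2 hd
  have hinj := Finite.injective_iff_surjective.2 hsurj
  have hw2 : w ^ 2 = 1 := by
    rw [← hord, Subgroup.orderOf_mk]
    exact pow_orderOf_eq_one w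
  have he : (⟨w, hw⟩ : σ.ker) = 1 := hinj (Subtype.ext (by
    show w ^ 2 = (1 : Γ) ^ 2
    rw [hw2, one_pow]))
  rw [he, orderOf_one] at hord
  omega

end Cfsg.Agent.SpMult50
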