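import Cfsg.Agent.SpMult50.Plane

/-!
The symplectic groups have no multiplier prime to the characteristic: the vectors of the natural
module carry a consistent system of lifted transporting transvections (helper50).
-/

set_option autoImplicit false

namespace Cfsg.Agent.SpMult50

open Matrix Cfsg.Agent.Symplectic Cfsg.Agent.CharB.PSLMult

universe v

variable {m : ℕ} {F : Type v} [Field F]

theorem commute_tv {a b : Vec m F} (h : sympForm m F a b = 0) (c d : F) :
    Commute (Symplectic.tv a c) (Symplectic.tv b d) := by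
  have h' : sympForm m F b a = 0 := by rw [sympForm_swap, h, neg_zero]
  have e := conj_tv (Symplectic.tv a c) b d
  rw [tv_smul_of_orth c h'] at e
  exact mul_inv_eq_iff_eq_mul.1 e

theorem fixPairs_anti {S T : Finset (Fin m)} (h : S ⊆ T) :
    (fixPairs T : Subgroup (Sp m F)) ≤ fixPairs S :=
  fun _ hg => mem_fixPairs.2 fun i hi => mem_fixPairs.1 hg i (h hi)

theorem tv_mem_fixPairs {S : Finset (Fin m)} {w : Vec m F} (hw : w ∈ supp S) (c : F) :
    Symplectic.tv w c ∈ fixPairs S :=
  tvGroup_le_fixPairs S (tv_mem_tvGroup hw c)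

/-- The unipotent radical of the stabiliser of `eI j` inside `fixPairs S`. -/
def rad (S : Finset (Fin m)) (j : Fin m) : Subgroup (Sp m F) where
  carrier := {g | g ∈ fixPairs S ∧ g • (eI j : Vec m F) = eI j ∧
    ∀ x ∈ (supp (insert j S) : Submodule F (Vec m F)), ∃ a : F, g • x = x + a • eI j}
  one_mem' := ⟨one_mem _, one_smul _ _, fun x _ => ⟨0, by simp⟩⟩
  mul_mem' := by
    rintro g h ⟨g1, g2, g3⟩ ⟨h1, h2, h3⟩
    refine ⟨mul_mem g1 h1, by rw [mul_smul, h2, g2], fun x hx => ?_⟩
    obtain ⟨a, ha⟩ := g3 x hx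
    obtain ⟨b, hb⟩ := h3 x hx
    exact ⟨a + b, by rw [mul_smul, hb, smul_add, smul_comm, g2, ha, add_smul, add_assoc]⟩
  inv_mem' := by
    rintro g ⟨g1, g2, g3⟩
    refine ⟨inv_mem g1, by rw [inv_smul_eq_iff, g2], fun x hx => ?_⟩
    obtain ⟨a, ha⟩ := g3 x hx
    refine ⟨-a, ?_⟩
    rw [inv_smul_eq_iff, smul_add, smul_comm, g2, ha]
    module

theorem mem_rad {S : Finset (Fin m)} {j : Fin m} {g : Sp m F} :
    g ∈ rad S j ↔ g ∈ fixPairs S ∧ g • (eI j : Vec m F) = eI j ∧
      ∀ x ∈ (supp (insert j S) : Submodule F (Vec m F)), ∃ a : F, g • x = x + a • eI j := Iff.rfl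

theorem conj_mem_rad {S : Finset (Fin m)} {j : Fin m} {g k : Sp m F} (hg : g ∈ rad S j)
    (hk : k ∈ fixPairs (insert j S)) : k * g * k⁻¹ ∈ rad S j := by
  obtain ⟨g1, g2, g3⟩ := hg
  obtain ⟨k2, -⟩ := mem_fixPairs.1 hk j (Finset.mem_insert_self j S)
  have k1 : k ∈ fixPairs S := fixPairs_anti (Finset.subset_insert j S) hk
  refine ⟨mul_mem (mul_mem k1 g1) (inv_mem k1), ?_, fun x hx => ?_⟩
  · rw [mul_smul, mul_smul, (inv_smul_eq_iff).2 k2.symm, g2, k2]
  · obtain ⟨a, ha⟩ := g3 (k⁻¹ • x) (smul_mem_supp (inv_mem hk) hx)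
    exact ⟨a, by rw [mul_smul, mul_smul, ha, smul_add, smul_inv_smul, smul_comm, k2]⟩

theorem rad_inf {S : Finset (Fin m)} {j : Fin m} {g : Sp m F} (hg : g ∈ rad S j)
    (hg' : g ∈ fixPairs (insert j S)) : g = 1 := by
  rw [← Subgroup.mem_bot, ← fixPairs_univ, mem_fixPairs]
  intro i _
  by_cases hi : i ∈ insert j S
  · exact mem_fixPairs.1 hg' i hi
  have key : ∀ x ∈ (supp (insert j S) : Submodule F (Vec m F)), g • x = x := by
    intro x hx
    obtain ⟨a, ha⟩ := hg.2.2 x hx
    have h1 := (smul_mem_supp hg' hx j (Finset.mem_insert_self j S)).1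
    rw [ha, Pi.add_apply, (hx j (Finset.mem_insert_self j S)).1] at h1
    simp [eI] at h1
    rw [ha, h1, zero_smul, add_zero]
  exact ⟨key _ (eI_mem_supp hi), key _ (fI_mem_supp hi)⟩

theorem isPGroup_rad {p : ℕ} [hp : Fact p.Prime] [CharP F p] (S : Finset (Fin m)) (j : Fin m)
    (hj : j ∉ S) : IsPGroup p (rad (F := F) S j) := by
  rintro ⟨g, g1, g2, g3⟩
  refine ⟨2, Subtype.ext ?_⟩
  show g ^ p ^ 2 = 1
  set M : Matrix (Fin m ⊕ Fin m) (Fin m ⊕ Fin m) F :=
    (g : Matrix (Fin m ⊕ Fin m) (Fin m ⊕ Fin m) F) with hM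
  have hN : ∀ x : Vec m F, (M - 1) *ᵥ x = g • x - x := fun x => by
    rw [sub_mulVec, one_mulVec, smul_eq]
  have he : (M - 1) *ᵥ (eI j : Vec m F) = 0 := by rw [hN, g2, sub_self]
  have hcube : (M - 1) ^ 3 = 0 := by
    refine Matrix.ext_of_mulVec_single fun i => ?_
    rw [zero_mulVec, pow_succ', pow_two, ← mulVec_mulVec, ← mulVec_mulVec]
    set x : Vec m F := Pi.single i 1
    set y := (M - 1) *ᵥ x with hy
    have hyS : ∀ k ∈ S, y (Sum.inl k) = 0 ∧ y (Sum.inr k) = 0 := by
      intro k hk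
      obtain ⟨ke, kf⟩ := mem_fixPairs.1 g1 k hk
      constructor
      · rw [hy, hN, Pi.sub_apply, ← sympForm_fI_left k (g • x), ← kf, sympForm_smul_smul,
          sympForm_fI_left, sub_self]
      · have := sympForm_smul_smul g (eI k) x
        rw [ke, sympForm_eI_left, sympForm_eI_left, neg_inj] at this
        rw [hy, hN, Pi.sub_apply, this, sub_self]
    have hyr : y (Sum.inr j) = 0 := by
      have := sympForm_smul_smul g (eI j) x
      rw [g2, sympForm_eI_left, sympForm_eI_left, neg_inj] at this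
      rw [hy, hN, Pi.sub_apply, this, sub_self]
    set y' := y - y (Sum.inl j) • eI j with hy'
    have hy'S : y' ∈ supp (insert j S) := by
      intro k hk
      rcases Finset.mem_insert.1 hk with rfl | hk
      · simp [hy', eI, hyr]
      · have hkj : k ≠ j := fun h => hj (h ▸ hk)
        obtain ⟨a, b⟩ := hyS k hk
        simp [hy', eI, a, b, hkj]
    obtain ⟨a, ha⟩ := g3 y' hy'S
    have hyy : y = y' + y (Sum.inl j) • eI j := by rw [hy', sub_add_cancel]
    rw [hyy, mulVec_add (M - 1) y', mulVec_smul, he, smul_zero, add_zero, hN y', ha,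
      add_sub_cancel_left, mulVec_smul, he, smul_zero]
  refine eq_of_smul_eq fun x => ?_
  have hpow : ((g ^ p ^ 2 : Sp m F) : Matrix (Fin m ⊕ Fin m) (Fin m ⊕ Fin m) F) = M ^ p ^ 2 := by
    rw [SubmonoidClass.coe_pow]
  have e1 : M ^ p ^ 2 = 1 := by
    have e : (M - 1) ^ p ^ 2 = M ^ p ^ 2 - 1 := by
      have : Nonempty (Fin m ⊕ Fin m) := ⟨Sum.inl j⟩
      rw [sub_pow_char_pow_of_commute p 2 (Commute.one_right M), one_pow]
    have h3 : 3 ≤ p ^ 2 := by have := hp.out.two_le; nlinarith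
    rw [pow_eq_zero_of_le h3 hcube] at e
    exact sub_eq_zero.1 e.symm
  rw [smul_eq, hpow, e1, one_mulVec, one_smul]

variable [Finite F] {p : ℕ} [CharP F p] {Γ : Type v} [Group Γ] [Finite Γ] {σ : Γ →* Sp m F}

omit [CharP F p] in
/-- The `p`-elements over a `p`-subgroup form a subgroup. -/
theorem exists_lift_pgroup (E : PExt p σ) (X : Subgroup (Sp m F)) (hX : IsPGroup p X) :
    ∃ L : Subgroup Γ, ∀ g, g ∈ L ↔ Pel p g ∧ σ g ∈ X := by
  have := Fact.mk E.prime
  set P : Subgroup Γ := X.comap σ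
  obtain ⟨Q⟩ : Nonempty (Sylow p P) := inferInstance
  let φ : P →* X := (σ.comp P.subtype).codRestrict X fun x => x.2
  have hφ : Function.Surjective φ := fun x => by
    obtain ⟨g, hg⟩ := E.surj x
    exact ⟨⟨g, show σ g ∈ X from hg ▸ x.2⟩, Subtype.ext hg⟩
  have htop : (Q : Subgroup P).map φ = ⊤ := by
    rw [← Subgroup.index_eq_one]
    have hd := Subgroup.index_map_dvd (Q : Subgroup P) hφ
    obtain ⟨k, hk⟩ := hX.index ((Q : Subgroup P).map φ)
    rcases Nat.eq_zero_or_pos k with rfl | hk0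
    · simpa using hk
    · exact absurd (((dvd_pow_self p hk0.ne').trans (hk ▸ dvd_rfl)).trans hd) Q.not_dvd_index
  refine ⟨(Q : Subgroup P).map P.subtype, fun g => ⟨?_, ?_⟩⟩
  · rintro ⟨⟨x, hx⟩, hxQ, rfl⟩
    refine ⟨?_, hx⟩
    obtain ⟨k, hk⟩ := Q.isPGroup' ⟨_, hxQ⟩
    exact ⟨k, congrArg (fun y : (Q : Subgroup P) => ((y : P) : Γ)) hk⟩
  · rintro ⟨hg, hgX⟩
    obtain ⟨s, hs, hse⟩ : φ ⟨g, hgX⟩ ∈ (Q : Subgroup P).map φ := htop ▸ Subgroup.mem_top _
    obtain ⟨k, hk⟩ := Q.isPGroup' ⟨s, hs⟩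
    have hsp : Pel p (s : Γ) := ⟨k, congrArg (fun y : (Q : Subgroup P) => ((y : P) : Γ)) hk⟩
    exact ⟨s, hs, E.uniq hsp hg (congrArg Subtype.val hse :)⟩

variable (E : PExt p σ)

/-- The lifted transvections with centre in `supp S`. -/
def lifts (S : Finset (Fin m)) : Subgroup Γ :=
  Subgroup.closure {g | ∃ w ∈ (supp S : Submodule F (Vec m F)), ∃ c, g = T E w c}

omit [Finite F] [Finite Γ] in
theorem map_lifts (S : Finset (Fin m)) : (lifts E S).map σ = fixPairs S := by
  rw [fixPairs_eq_tvGroup, lifts, MonoidHom.map_closure, tvGroup]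
  congr 1
  ext g
  constructor
  · rintro ⟨_, ⟨w, hw, c, rfl⟩, rfl⟩; exact ⟨w, hw, c, map_T E w c⟩
  · rintro ⟨w, hw, c, rfl⟩; exact ⟨_, ⟨w, hw, c, rfl⟩, map_T E w c⟩

omit [Finite F] [Finite Γ] in
theorem map_lifts_mem {S : Finset (Fin m)} {g : Γ} (hg : g ∈ lifts E S) : σ g ∈ fixPairs S :=
  map_lifts E S ▸ ⟨g, hg, rfl⟩

/-- The lifted transvection carrying `u` to `v`. -/
noncomputable def Mv (u v : Vec m F) : Γ := T E (v - u) (sympForm m F u v)⁻¹

omit [Finite F] [Finite Γ] in
theorem Mv_smul {u v : Vec m F} (h : sympForm m F u v ≠ 0) : σ (Mv E u v) • u = v := by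
  rw [Mv, map_T]; exact tv_maps h

omit [Finite F] [Finite Γ] in
theorem Mv_mem {S : Finset (Fin m)} {u v : Vec m F} (hu : u ∈ supp S) (hv : v ∈ supp S) :
    σ (Mv E u v) ∈ fixPairs S := by
  rw [Mv, map_T]; exact tv_mem_fixPairs (sub_mem hv hu) _

omit [Finite F] [Finite Γ] in
theorem Mv_swap (u v : Vec m F) : (Mv E u v)⁻¹ = Mv E v u := by
  rw [Mv, Mv, T_inv]
  refine T_congr E ?_
  rw [show v - u = (-1 : F) • (u - v) by module, tv_smul_vec, sympForm_swap v u, inv_neg]
  congr 1
  ring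

/-- The transporting lifts of a triangle compose to a `p`-element fixing the first vertex. -/
theorem pel_triangle {u v w : Vec m F} (huv : sympForm m F u v ≠ 0) (hvw : sympForm m F v w ≠ 0)
    (huw : sympForm m F u w ≠ 0) : Pel p ((Mv E u w)⁻¹ * Mv E v w * Mv E u v) := by
  set h := (Mv E u w)⁻¹ * Mv E v w * Mv E u v with hh
  have hfix : σ h • u = u := by
    rw [hh, map_mul, map_mul, map_inv, mul_smul, mul_smul, Mv_smul E huv, Mv_smul E hvw,
      inv_smul_eq_iff, Mv_smul E huw]
  by_cases h0 : sympForm m F (v - u) (w - v) = 0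
  · have hd : w - u = (v - u) + (w - v) := by abel
    have c13 : Commute (Symplectic.tv (v - u) (sympForm m F u v)⁻¹)
        (Symplectic.tv (w - u) (sympForm m F u w)⁻¹) :=
      commute_tv (by rw [hd, sympForm_add_right, sympForm_self, h0, add_zero]) _ _
    have c12 : Commute (Symplectic.tv (v - u) (sympForm m F u v)⁻¹)
        (Symplectic.tv (w - v) (sympForm m F v w)⁻¹) := commute_tv h0 _ _
    have c23 : Commute (Symplectic.tv (w - u) (sympForm m F u w)⁻¹)
        (Symplectic.tv (w - v) (sympForm m F v w)⁻¹) :=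
      commute_tv (by rw [hd, sympForm_add_left, sympForm_self, h0, add_zero]) _ _
    have hab : Pel p ((Mv E u w)⁻¹ * Mv E v w) :=
      (pel_T E _ _).inv.mul (pel_T E _ _)
        (E.commute (pel_T E _ _).inv (pel_T E _ _)
          (by simp only [Mv, map_inv, map_T]; exact c23.inv_left))
    refine hab.mul (pel_T E _ _) (E.commute hab (pel_T E _ _) ?_)
    simp only [Mv, map_mul, map_inv, map_T]
    exact (c13.symm.inv_left).mul_left c12.symm
  · set c := sympForm m F (v - u) (w - v) with hc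
    have hef : sympForm m F (v - u) (c⁻¹ • (w - v)) = 1 := by
      rw [sympForm_smul_right, ← hc, inv_mul_cancel₀ h0]
    refine pel_of_plane E hef (g := h) ?_ (u := u) ?_ hfix
    · refine mul_mem (mul_mem (inv_mem ?_) ?_) ?_
      · refine Subgroup.subset_closure ⟨1, c, (sympForm m F u w)⁻¹, ?_⟩
        rw [one_smul, smul_inv_smul₀ h0]
        exact T_congr E (by congr 1; abel)
      · refine Subgroup.subset_closure ⟨0, c, (sympForm m F v w)⁻¹, ?_⟩
        rw [zero_smul, zero_add, smul_inv_smul₀ h0]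
        rfl
      · refine Subgroup.subset_closure ⟨1, 0, (sympForm m F u v)⁻¹, ?_⟩
        rw [one_smul, zero_smul, add_zero]
        rfl
    · rw [sympForm_sub_left, sympForm_self, sub_zero, sympForm_swap]
      exact neg_ne_zero.2 huv

/-- **The lifted transvections meet the kernel trivially.** -/
theorem lifts_inf_ker : ∀ (S : Finset (Fin m)) (g : Γ), g ∈ lifts E S → σ g = 1 → g = 1 := by
  intro S
  induction hn : Sᶜ.card using Nat.strong_induction_on generalizing S with
  | _ n ih =>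
  classical
  have := Fact.mk E.prime
  by_cases hS : S = Finset.univ
  · intro g hg _
    have : lifts E S ≤ ⊥ := by
      rw [lifts, Subgroup.closure_le]
      rintro _ ⟨w, hw, c, rfl⟩
      rw [SetLike.mem_coe, Subgroup.mem_bot]
      refine E.uniq (pel_T E _ _) pel_one ?_
      have := tv_mem_fixPairs hw c
      rw [hS, fixPairs_univ, Subgroup.mem_bot] at this
      rw [map_T, this, map_one]
    exact this hg
  obtain ⟨j, hj⟩ : ∃ j, j ∉ S := by simpa [Finset.eq_univ_iff_forall] using hS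
  have ih' : ∀ g ∈ lifts E (insert j S), σ g = 1 → g = 1 :=
    ih _ (by
      rw [← hn]
      exact Finset.card_lt_card (Finset.compl_ssubset_compl.2 (Finset.ssubset_insert hj))) _ rfl
  obtain ⟨L, hL⟩ := exists_lift_pgroup E (rad S j) (isPGroup_rad S j hj)
  have hnorm : ∀ k ∈ lifts E (insert j S), ∀ a ∈ L, k * a * k⁻¹ ∈ L := by
    intro k hk a ha
    obtain ⟨h1, h2⟩ := (hL a).1 ha
    refine (hL _).2 ⟨h1.conj k, ?_⟩
    rw [map_mul, map_mul, map_inv]
    exact conj_mem_rad h2 (map_lifts_mem E hk)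
  let M : Subgroup Γ :=
    { carrier := {g | ∃ k ∈ lifts E (insert j S), ∃ a ∈ L, g = k * a}
      one_mem' := ⟨1, one_mem _, 1, one_mem _, (mul_one 1).symm⟩
      mul_mem' := by
        rintro _ _ ⟨l, hl, a, ha, rfl⟩ ⟨l', hl', a', ha', rfl⟩
        refine ⟨l * l', mul_mem hl hl', l'⁻¹ * a * l' * a', mul_mem ?_ ha', by group⟩
        have := hnorm l'⁻¹ (inv_mem hl') a ha
        rwa [inv_inv] at this
      inv_mem' := by
        rintro _ ⟨l, hl, a, ha, rfl⟩
        exact ⟨l⁻¹, inv_mem hl, l * a⁻¹ * l⁻¹, hnorm l hl _ (inv_mem ha), by group⟩ }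
  have hMker : ∀ g ∈ M, σ g = 1 → g = 1 := by
    rintro _ ⟨k, hk, a, ha, rfl⟩ h1
    obtain ⟨hap, har⟩ := (hL a).1 ha
    rw [map_mul] at h1
    have hka : σ k = (σ a)⁻¹ := eq_inv_of_mul_eq_one_left h1
    have ha1 : σ a = 1 := rad_inf har (inv_inv (σ a) ▸ inv_mem (hka ▸ map_lifts_mem E hk))
    rw [ih' k hk (by rw [hka, ha1, inv_one]), one_mul]
    exact E.ker_pel ha1 hap
  set e : Vec m F := eI j with he
  have heS : e ∈ supp S := eI_mem_supp hj
  have hfS : (fI j : Vec m F) ∈ supp S := fI_mem_supp hj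
  have hfe : sympForm m F (fI j : Vec m F) e = 1 := sympForm_fI_eI j
  have hpelM : ∀ g : Γ, Pel p g → σ g ∈ fixPairs S → σ g • e = e → g ∈ M := by
    intro g hg hgS hge
    set y := σ g • (fI j : Vec m F) with hy
    have hyS : y ∈ supp S := smul_mem_supp hgS hfS
    have hyr : y (Sum.inr j) = 1 := by
      have := sympForm_smul_smul (σ g) (fI j : Vec m F) e
      rw [hge, hfe, ← hy, he, sympForm_eI_right] at this
      exact this
    set b := y (Sum.inl j) with hb
    set y' := y - fI j - b • e with hy'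
    have hy'S : y' ∈ supp (insert j S) := by
      intro k hk
      rcases Finset.mem_insert.1 hk with rfl | hk
      · simp [hy', he, eI, fI, hyr, hb]
      · have hkj : k ≠ j := fun h => hj (h ▸ hk)
        obtain ⟨a1, a2⟩ := hyS k hk
        simp [hy', he, eI, fI, a1, a2, hkj]
    have hy'e : sympForm m F e y' = 0 := by
      rw [he, sympForm_eI_left, (hy'S j (Finset.mem_insert_self j S)).2, neg_zero]
    have hy'f : sympForm m F (fI j : Vec m F) y' = 0 := by
      rw [sympForm_fI_left, (hy'S j (Finset.mem_insert_self j S)).1]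
    have hye : sympForm m F y' e = 0 := by rw [sympForm_swap, hy'e, neg_zero]
    have hy'S' : y' ∈ supp S := supp_anti (Finset.subset_insert j S) hy'S
    have hn1 : sh e y' 1 ∈ rad S j := by
      refine ⟨?_, ?_, fun x hx => ⟨sympForm m F x y', ?_⟩⟩
      · exact mul_mem (mul_mem (tv_mem_fixPairs (add_mem heS hy'S') _) (tv_mem_fixPairs heS _))
          (tv_mem_fixPairs hy'S' _)
      · rw [sh_smul hy'e, hy'e, sympForm_self]; simp
      · rw [sh_smul hy'e, he, sympForm_eI_right, (hx j (Finset.mem_insert_self j S)).2]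
        simp
    have hn2 : Symplectic.tv e b ∈ rad S j :=
      ⟨tv_mem_fixPairs heS _, tv_smul_of_orth _ (sympForm_self _),
        fun x _ => ⟨b * sympForm m F x e, tv_smul e b x⟩⟩
    set x₀ := sh e y' 1 * Symplectic.tv e b with hx₀
    have hx₀r : x₀ ∈ rad S j := mul_mem hn1 hn2
    have hx₀f : x₀ • (fI j : Vec m F) = y := by
      rw [hx₀, mul_smul, tv_smul, hfe, mul_one, sh_smul hy'e, sympForm_add_left, sympForm_add_left,
        hy'f, hfe, sympForm_smul_left, sympForm_smul_left, hy'e, sympForm_self, hy']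
      simp only [one_mul, add_zero, mul_zero, zero_smul, one_smul]
      abel
    have hk₀ : x₀⁻¹ * σ g ∈ fixPairs (insert j S) := by
      rw [mem_fixPairs]
      intro i hi
      rcases Finset.mem_insert.1 hi with rfl | hi
      · exact ⟨by rw [mul_smul, hge, inv_smul_eq_iff]; exact hx₀r.2.1.symm,
          by rw [mul_smul, ← hy, inv_smul_eq_iff, hx₀f]⟩
      · exact mem_fixPairs.1 (mul_mem (inv_mem hx₀r.1) hgS) i hi
    rw [← map_lifts E] at hk₀
    obtain ⟨l, hl, hle⟩ := hk₀
    have hxp : Pel p x₀ := by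
      obtain ⟨k, hk⟩ := isPGroup_rad S j hj ⟨x₀, hx₀r⟩
      exact ⟨k, congrArg Subtype.val hk⟩
    set a := E.pl x₀ hxp with ha
    have haM : a ∈ M := ⟨1, one_mem _, a, (hL a).2 ⟨E.pel_pl _, by rw [E.map_pl]; exact hx₀r⟩,
      (one_mul a).symm⟩
    have hlM : l ∈ M := ⟨l, hl, 1, one_mem _, (mul_one l).symm⟩
    set z := (a * l)⁻¹ * g with hz
    have hzk : z ∈ σ.ker := by
      rw [MonoidHom.mem_ker, hz, map_mul, map_inv, map_mul, ha, E.map_pl, hle]; group
    have hgz : g = a * l * z := by rw [hz]; group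
    have hc : Commute (a * l) z := Subgroup.mem_center_iff.1 (E.central hzk) _
    obtain ⟨k, hk⟩ := hg
    rw [hgz, hc.mul_pow] at hk
    have hzM : z ^ p ^ k ∈ M := by
      rw [eq_inv_of_mul_eq_one_right hk]; exact M.inv_mem (M.pow_mem (mul_mem haM hlM) _)
    have hz1 : z = 1 := E.ker_pel hzk ⟨k, hMker _ hzM (by rw [map_pow, hzk, one_pow])⟩
    rw [hgz, hz1, mul_one]
    exact mul_mem haM hlM
  -- congruence of lifts over the same vector
  let R : Γ → Γ → Prop := fun a b => a⁻¹ * b ∈ M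
  have Rrefl : ∀ a, R a a := fun a => by simp [R]
  have Rsymm : ∀ {a b}, R a b → R b a := fun {a b} h => by
    have := inv_mem h; simpa [R, _root_.mul_inv_rev] using this
  have Rtrans : ∀ {a b c}, R a b → R b c → R a c := fun {a b c} h h' => by
    have := mul_mem h h'; simpa [R, mul_assoc] using this
  have Rleft : ∀ (g : Γ) {a b}, R a b → R (g * a) (g * b) := fun g {a b} h => by
    simpa [R, mul_assoc] using h
  have fixer : ∀ (g r : Γ) (u : Vec m F), Pel p g → σ g ∈ fixPairs S → σ g • u = u →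
      σ r ∈ fixPairs S → σ r • e = u → R (g * r) r := by
    intro g r u hg hgS hgu hr hre
    show (g * r)⁻¹ * r ∈ M
    have h1 : (g * r)⁻¹ * r = r⁻¹ * g⁻¹ * (r⁻¹)⁻¹ := by group
    rw [h1]
    refine hpelM _ (hg.inv.conj _) ?_ ?_
    · simp only [map_mul, map_inv]
      exact mul_mem (mul_mem (inv_mem hr) (inv_mem hgS)) (inv_mem (inv_mem hr))
    · simp only [map_mul, map_inv, inv_inv, mul_smul, hre]
      rw [inv_smul_eq_iff.2 hgu.symm, inv_smul_eq_iff, hre]
  have tri : ∀ (u v w : Vec m F) (r : Γ), u ∈ supp S → v ∈ supp S → w ∈ supp S →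
      sympForm m F u v ≠ 0 → sympForm m F v w ≠ 0 → sympForm m F u w ≠ 0 →
      σ r ∈ fixPairs S → σ r • e = u → R (Mv E v w * (Mv E u v * r)) (Mv E u w * r) := by
    intro u v w r hu hv hw h1 h2 h3 hr hre
    have hfix : σ ((Mv E u w)⁻¹ * Mv E v w * Mv E u v) • u = u := by
      rw [map_mul, map_mul, map_inv, mul_smul, mul_smul, Mv_smul E h1, Mv_smul E h2,
        inv_smul_eq_iff, Mv_smul E h3]
    have hmem : σ ((Mv E u w)⁻¹ * Mv E v w * Mv E u v) ∈ fixPairs S := by
      rw [map_mul, map_mul, map_inv]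
      exact mul_mem (mul_mem (inv_mem (Mv_mem E hu hw)) (Mv_mem E hv hw)) (Mv_mem E hu hv)
    have := Rleft (Mv E u w) (fixer _ r u (pel_triangle E h1 h2 h3) hmem hfix hr hre)
    simpa [mul_assoc] using this
  -- the section
  have haux : ∀ v : Vec m F, v ∈ supp S → v ≠ 0 → ∃ z : Vec m F,
      z ∈ supp S ∧ sympForm m F e z ≠ 0 ∧ sympForm m F z v ≠ 0 := by
    intro v hv hv0
    obtain ⟨y, hy, hyv⟩ := exists_form_ne_zero hv hv0
    have hyv' : sympForm m F y v ≠ 0 := by rwa [sympForm_swap, neg_ne_zero]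
    have hef : sympForm m F e (fI j) ≠ 0 := by
      rw [sympForm_swap, hfe]; simp
    by_cases h1 : sympForm m F (fI j) v = 0
    · by_cases h2 : sympForm m F e y = 0
      · exact ⟨fI j + y, add_mem hfS hy, by simpa [sympForm_add_right, h2] using hef,
          by simpa [sympForm_add_left, h1] using hyv'⟩
      · exact ⟨y, hy, h2, hyv'⟩
    · exact ⟨fI j, hfS, hef, h1⟩
  choose zf hz1 hz2 hz3 using haux
  let r : Vec m F → Γ := fun v =>
    if h : v ∈ supp S ∧ v ≠ 0 then
      if sympForm m F e v ≠ 0 then Mv E e v else Mv E (zf v h.1 h.2) v * Mv E e (zf v h.1 h.2)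
    else 1
  have r_gen : ∀ v : Vec m F, v ∈ supp S → sympForm m F e v ≠ 0 → r v = Mv E e v := fun v hv h => by
    have hv0 : v ≠ 0 := fun h0 => h (by simp [h0])
    simp only [r]; rw [dif_pos ⟨hv, hv0⟩, if_pos h]
  have oneS : σ (1 : Γ) ∈ fixPairs S := by rw [map_one]; exact one_mem _
  have onee : σ (1 : Γ) • e = e := by rw [map_one, one_smul]
  have r_orth : ∀ v z : Vec m F, v ∈ supp S → v ≠ 0 → sympForm m F e v = 0 → z ∈ supp S →
      sympForm m F e z ≠ 0 → sympForm m F z v ≠ 0 → R (Mv E z v * Mv E e z) (r v) := by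
    intro v z hv hv0 hev hz hez hzv
    have step : ∀ z z' : Vec m F, z ∈ supp S → z' ∈ supp S → sympForm m F e z ≠ 0 →
        sympForm m F z v ≠ 0 → sympForm m F e z' ≠ 0 → sympForm m F z' v ≠ 0 →
        sympForm m F z z' ≠ 0 → R (Mv E z v * Mv E e z) (Mv E z' v * Mv E e z') := by
      intro z z' hz hz' h1 h2 h3 h4 h5
      have t1 := tri z z' v (Mv E e z) hz hz' hv h5 h4 h2 (Mv_mem E heS hz) (Mv_smul E h1)
      have t2 := Rleft (Mv E z' v) (tri e z z' 1 heS hz hz' h1 h5 h3 oneS onee)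
      simp only [mul_one] at t2
      exact Rtrans (Rsymm t1) t2
    simp only [r]
    rw [dif_pos ⟨hv, hv0⟩, if_neg (not_not.2 hev)]
    set z' := zf v hv hv0
    have hz' := hz1 v hv hv0
    have hez' : sympForm m F e z' ≠ 0 := hz2 v hv hv0
    have hzv' : sympForm m F z' v ≠ 0 := hz3 v hv hv0
    by_cases h : sympForm m F z z' = 0
    · have a1 : sympForm m F e (z' + e) ≠ 0 := by simpa [sympForm_add_right] using hez'
      have a2 : sympForm m F (z' + e) v ≠ 0 := by simpa [sympForm_add_left, hev] using hzv'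
      have a3 : sympForm m F z (z' + e) ≠ 0 := by
        rw [sympForm_add_right, h, zero_add, sympForm_swap, neg_ne_zero]; exact hez
      have a4 : sympForm m F (z' + e) z' ≠ 0 := by simpa [sympForm_add_left] using hez'
      exact Rtrans (step z (z' + e) hz (add_mem hz' heS) hez hzv a1 a2 a3)
        (step (z' + e) z' (add_mem hz' heS) hz' a1 a2 hez' hzv' a4)
    · exact step z z' hz hz' hez hzv hez' hzv' h
  have r_spec : ∀ v : Vec m F, v ∈ supp S → v ≠ 0 → σ (r v) ∈ fixPairs S ∧ σ (r v) • e = v := by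
    intro v hv hv0
    by_cases h : sympForm m F e v = 0
    · simp only [r]
      rw [dif_pos ⟨hv, hv0⟩, if_neg (not_not.2 h)]
      refine ⟨?_, ?_⟩
      · rw [map_mul]
        exact mul_mem (Mv_mem E (hz1 v hv hv0) hv) (Mv_mem E heS (hz1 v hv hv0))
      · rw [map_mul, mul_smul, Mv_smul E (hz2 v hv hv0), Mv_smul E (hz3 v hv hv0)]
    · rw [r_gen v hv h]
      exact ⟨Mv_mem E heS hv, Mv_smul E h⟩
  have move : ∀ u v : Vec m F, u ∈ supp S → v ∈ supp S → sympForm m F u v ≠ 0 →
      R (Mv E u v * r u) (r v) := by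
    intro u v hu hv huv
    have hu0 : u ≠ 0 := fun h0 => huv (by simp [h0])
    have hv0 : v ≠ 0 := fun h0 => huv (by simp [h0])
    by_cases h1 : sympForm m F e u = 0 <;> by_cases h2 : sympForm m F e v = 0
    · -- both orthogonal
      set α := (1 - sympForm m F (fI j) v) / sympForm m F u v with hα
      set β := (1 - sympForm m F (fI j) u) / sympForm m F v u with hβ
      have hvu : sympForm m F v u ≠ 0 := by rwa [sympForm_swap, neg_ne_zero]
      set z := fI j + α • u + β • v with hz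
      have hzS : z ∈ supp S := add_mem (add_mem hfS (Submodule.smul_mem _ _ hu)) (Submodule.smul_mem _ _ hv)
      have hzu : sympForm m F z u = 1 := by
        rw [hz, sympForm_add_left, sympForm_add_left, sympForm_smul_left, sympForm_smul_left,
          sympForm_self, hβ, div_mul_cancel₀ _ hvu]; ring
      have hzv : sympForm m F z v = 1 := by
        rw [hz, sympForm_add_left, sympForm_add_left, sympForm_smul_left, sympForm_smul_left,
          sympForm_self, hα, div_mul_cancel₀ _ huv]; ring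
      have hez : sympForm m F e z ≠ 0 := by
        rw [hz, sympForm_add_right, sympForm_add_right, sympForm_smul_right, sympForm_smul_right,
          h1, h2, sympForm_swap, hfe]
        simp
      have e1 := r_orth u z hu hu0 h1 hzS hez (by rw [hzu]; exact one_ne_zero)
      have e2 := r_orth v z hv hv0 h2 hzS hez (by rw [hzv]; exact one_ne_zero)
      have t := tri z u v (Mv E e z) hzS hu hv (by rw [hzu]; exact one_ne_zero) huv
        (by rw [hzv]; exact one_ne_zero) (Mv_mem E heS hzS) (Mv_smul E hez)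
      exact Rtrans (Rleft _ (Rsymm e1)) (Rtrans t e2)
    · -- only the first orthogonal
      have hvu : sympForm m F v u ≠ 0 := by rwa [sympForm_swap, neg_ne_zero]
      have e1 := Rleft (Mv E u v) (r_orth u v hu hu0 h1 hv h2 hvu)
      rw [← Mv_swap E u v, mul_inv_cancel_left] at e1
      rw [r_gen v hv h2]
      exact Rsymm e1
    · rw [r_gen u hu h1]
      exact r_orth v u hv hv0 h2 hu h1 huv
    · rw [r_gen u hu h1, r_gen v hv h2]
      have := tri e u v 1 heS hu hv h1 huv h2 oneS onee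
      simpa using this
  let H : Subgroup Γ :=
    { carrier := {g | σ g ∈ fixPairs S ∧
        ∀ v ∈ supp S, v ≠ 0 → R (g * r v) (r (σ g • v))}
      one_mem' := ⟨oneS, fun v _ _ => by rw [map_one, one_smul, one_mul]; exact Rrefl _⟩
      mul_mem' := by
        rintro g h ⟨g1, g2⟩ ⟨h1, h2⟩
        refine ⟨by rw [map_mul]; exact mul_mem g1 h1, fun v hv hv0 => ?_⟩
        have hv' : σ h • v ∈ supp S := smul_mem_supp h1 hv
        have hv0' : σ h • v ≠ 0 := smul_ne_zero_of_ne_zero _ hv0
        rw [map_mul, mul_smul, mul_assoc]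
        exact Rtrans (Rleft g (h2 v hv hv0)) (g2 _ hv' hv0')
      inv_mem' := by
        rintro g ⟨g1, g2⟩
        refine ⟨by rw [map_inv]; exact inv_mem g1, fun v hv hv0 => ?_⟩
        have hv' : σ g⁻¹ • v ∈ supp S := by rw [map_inv]; exact smul_mem_supp (inv_mem g1) hv
        have h := Rleft g⁻¹ (g2 _ hv' (smul_ne_zero_of_ne_zero _ hv0))
        rw [inv_mul_cancel_left, map_inv, smul_inv_smul] at h
        rw [map_inv]
        exact Rsymm h }
  have hle : lifts E S ≤ H := by
    rw [lifts, Subgroup.closure_le]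
    rintro _ ⟨w, hw, c, rfl⟩
    refine ⟨by rw [map_T]; exact tv_mem_fixPairs hw c, fun v hv hv0 => ?_⟩
    by_cases hfx : σ (T E w c) • v = v
    · rw [hfx]
      exact fixer _ _ v (pel_T E _ _) (by rw [map_T]; exact tv_mem_fixPairs hw c) hfx
        (r_spec v hv hv0).1 (r_spec v hv hv0).2
    · rw [map_T] at hfx ⊢
      set lam := c * sympForm m F v w with hlam
      have hl0 : lam ≠ 0 := fun h0 => hfx (by rw [tv_smul, ← hlam, h0, zero_smul, add_zero])
      have hvw : sympForm m F v w ≠ 0 := right_ne_zero_of_mul hl0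
      rw [tv_smul, ← hlam]
      have hv' : v + lam • w ∈ supp S := add_mem hv (Submodule.smul_mem _ _ hw)
      have hvv' : sympForm m F v (v + lam • w) ≠ 0 := by
        rw [sympForm_add_right, sympForm_self, zero_add, sympForm_smul_right]
        exact mul_ne_zero hl0 hvw
      have hT : T E w c = Mv E v (v + lam • w) := by
        refine T_congr E ?_
        rw [add_sub_cancel_left, tv_smul_vec, sympForm_add_right, sympForm_self, zero_add,
          sympForm_smul_right]
        congr 1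
        rw [hlam]
        field_simp
      rw [hT]
      exact move v _ hv hv' hvv'
  intro g hg h1
  obtain ⟨-, h⟩ := hle hg
  have hev := h e heS (eI_ne_zero j)
  rw [h1, one_smul] at hev
  have hev' : (g * r e)⁻¹ * r e ∈ M := hev
  have hc : g * r e = r e * g := (Subgroup.mem_center_iff.1 (E.central h1) (r e)).symm
  rw [hc, _root_.mul_inv_rev, mul_assoc, inv_mul_cancel, mul_one] at hev'
  exact inv_eq_one.1 (hMker _ hev' (by rw [map_inv, h1, inv_one]))

/-- **No multiplier prime to the characteristic.** -/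
theorem ker_eq_bot_of_coprime (hperf : commutator Γ = ⊤) (E : PExt p σ) : σ.ker = ⊥ := by
  have htop : lifts E ∅ = ⊤ := by
    refine eq_top_of_sup_center hperf ?_
    rw [eq_top_iff]
    intro g _
    obtain ⟨a, ha, he⟩ : σ g ∈ (lifts E ∅).map σ := by
      rw [map_lifts, fixPairs_eq_tvGroup, tvGroup_empty]; exact Subgroup.mem_top _
    have hg : g = a * (a⁻¹ * g) := by group
    rw [hg]
    exact Subgroup.mul_mem_sup ha (E.central (by simp [MonoidHom.mem_ker, he]))
  rw [eq_bot_iff]
  intro z hz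
  exact lifts_inf_ker E ∅ z (htop ▸ Subgroup.mem_top z) hz

/-- The symplectic groups are `PTriv` for the characteristic. -/
theorem ptriv_Sp {m : ℕ} {F : Type v} [Field F] [Finite F] {p : ℕ} [CharP F p] :
    PTriv.{v, v} p (Sp m F) := by
  intro Γ _ _ σ E hgen
  have htop : lifts E ∅ = ⊤ := E.eq_top hgen (by
    rw [map_lifts, fixPairs_eq_tvGroup, tvGroup_empty])
  rw [eq_bot_iff]
  intro z hz
  exact lifts_inf_ker E ∅ z (htop ▸ Subgroup.mem_top z) hz

end Cfsg.Agent.SpMult50
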