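import Cfsg.Agent.SpMult50.Main

/-!
A stem extension of `Sp_6(2)` has kernel of order at most two (helper50).
-/

set_option autoImplicit false

namespace Cfsg.Agent.SpMult50

open Matrix Cfsg.Agent.Symplectic Cfsg.Agent.CharB.PSLMult

universe u v

/-- A stem extension stays one modulo a part of its kernel. -/
theorem isStemExtension_lift {G : Type u} [Group G] {Γ : Type v} [Group Γ] {σ : Γ →* G}
    (hσ : Cfsg.IsStemExtension σ) {K : Subgroup Γ} [K.Normal] (hK : K ≤ σ.ker) :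
    Cfsg.IsStemExtension (QuotientGroup.lift K σ hK) := by
  have hker : ∀ x ∈ (QuotientGroup.lift K σ hK).ker, ∃ g ∈ σ.ker, (g : Γ ⧸ K) = x := by
    intro x hx
    obtain ⟨g, rfl⟩ := QuotientGroup.mk_surjective x
    exact ⟨g, hx, rfl⟩
  refine ⟨fun y => ?_, fun x hx => ?_, fun x hx => ?_⟩
  · obtain ⟨g, rfl⟩ := hσ.1 y
    exact ⟨g, rfl⟩
  · obtain ⟨g, hg, rfl⟩ := hker x hx
    refine Subgroup.mem_center_iff.2 fun y => ?_
    obtain ⟨b, rfl⟩ := QuotientGroup.mk_surjective y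
    rw [← QuotientGroup.mk_mul, ← QuotientGroup.mk_mul, Subgroup.mem_center_iff.1 (hσ.2.1 hg) b]
  · obtain ⟨g, hg, rfl⟩ := hker x hx
    have hmem : (g : Γ ⧸ K) ∈ (commutator Γ).map (QuotientGroup.mk' K) := ⟨g, hσ.2.2 hg, rfl⟩
    rw [_root_.commutator_def, Subgroup.map_commutator,
      Subgroup.map_top_of_surjective _ (QuotientGroup.mk'_surjective K),
      ← _root_.commutator_def] at hmem
    exact hmem

theorem cm_map {G : Type u} [Group G] {Γ Δ : Type v} [Group Γ] [Group Δ] {σ : Γ →* G}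
    {τ : Δ →* G} (E : CEx σ) (E' : CEx τ) (f : Γ →* Δ) (hf : τ.comp f = σ) (x y : G) :
    E'.cm x y = f (E.cm x y) := by
  have h : ∀ g, τ (f g) = σ g := fun g => DFunLike.congr_fun hf g
  rw [CEx.cm.eq_1 E, map_commutatorElement, E'.cm_eq, h, h, E.map_s, E.map_s]

variable {F : Type v} [Field F] [Fintype F]

theorem two_facts (hF : Fintype.card F = 2) : (2 : F) = 0 ∧ ∀ x : F, x = 0 ∨ x = 1 := by
  classical
  have hc : CharP F 2 := charP_of_card_eq_prime hF
  refine ⟨by exact_mod_cast CharP.cast_eq_zero F 2, fun x => ?_⟩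
  by_contra h
  rw [not_or] at h
  have hsub : ({0, 1, x} : Finset F).card ≤ 2 := hF ▸ Finset.card_le_univ _
  rw [Finset.card_eq_three.2 ⟨0, 1, x, zero_ne_one, Ne.symm h.1, Ne.symm h.2, rfl⟩] at hsub
  omega

theorem card_ker_six_le_two (hF : Fintype.card F = 2) {Γ : Type v} [Group Γ] [Finite Γ]
    (σ : Γ →* Sp 3 F) (hσ : Cfsg.IsStemExtension σ) : Nat.card σ.ker ≤ 2 := by
  have hc : CharP F 2 := charP_of_card_eq_prime hF
  obtain ⟨h2, hall⟩ := two_facts hF
  have E : CEx σ := ⟨hσ.1, hσ.2.1⟩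
  set i : Fin 3 := 0
  set j : Fin 3 := 1
  set g0 := E.cm (tw (eI i : Vec 3 F)) (tw (eI j)) with hg0
  have hij : Commute (tw (eI i : Vec 3 F)) (tw (eI j)) := commute_tw (sympForm_eI_eI i j)
  have hg0c : g0 ∈ σ.ker := by
    rw [MonoidHom.mem_ker, hg0, E.map_cm, commutatorElement_eq_one_iff_mul_comm]
    exact hij.eq
  have hg2 : g0 ^ 2 = 1 := by
    rw [hg0, ← E.cm_pow_left hij, pow_two, tw_mul_self h2, E.cm_one_left]
  set K := Subgroup.zpowers g0 with hKdef
  have hK : K ≤ σ.ker := Subgroup.zpowers_le.2 hg0c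
  have hKn : K.Normal := by
    refine ⟨fun a ha g => ?_⟩
    rwa [Subgroup.mem_center_iff.1 (hσ.2.1 (hK ha)) g, mul_inv_cancel_right]
  set τ := QuotientGroup.lift K σ hK with hτdef
  have hτ : Cfsg.IsStemExtension τ := isStemExtension_lift hσ hK
  have hval : ∀ u w : Vec 3 F, sympForm 3 F u w = 0 → E.cm (tw u) (tw w) ∈ K := by
    intro u w h
    by_cases hu : u = 0
    · rw [hu, tw_zero, E.cm_one_left]; exact one_mem _
    by_cases hw : w = 0
    · rw [hw, tw_zero, E.cm_one_right]; exact one_mem _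
    by_cases huw : w = u
    · rw [huw, E.cm_self]; exact one_mem _
    obtain ⟨g, hga, hgb⟩ := exists_smul_orth_pair_std (m := 3) (by omega) hu h (fun r => by
      rcases hall r with rfl | rfl
      · rwa [zero_smul]
      · rwa [one_smul])
    rw [← E.cm_conj (commute_tw h) g, conj_tw, conj_tw, hga, hgb]
    exact Subgroup.mem_zpowers g0
  have hnd : ¬ 2 ∣ Nat.card τ.ker := by
    refine not_two_dvd_card_ker τ hτ fun Δ _ _ ρ f hρf hρ hexp => ?_
    refine not_dvd_card_ker hF Nat.prime_two hρ fun k =>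
      hasQComplement_two ⟨hρ.1, hρ.2.1⟩ hexp le_rfl (fun u w h => ?_) h2 hall k
    rw [cm_map E (τ := ρ) ⟨hρ.1, hρ.2.1⟩ (f.comp (QuotientGroup.mk' K))
      (by rw [← MonoidHom.comp_assoc, hρf]; exact MonoidHom.ext fun g => rfl), MonoidHom.comp_apply,
      QuotientGroup.mk'_apply, (QuotientGroup.eq_one_iff _).2 (hval u w h), map_one]
  have hbot : τ.ker = ⊥ := ker_eq_bot_of_coprime
    (Cfsg.Agent.Schur.isPerfect_of_stem
      (isPerfect_Sp hF (by omega) (fun h => by omega)) τ hτ).commutator_eq_top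
    (⟨Nat.prime_two, hτ.1, hτ.2.1, hnd⟩ : PExt 2 τ)
  have hle : σ.ker ≤ K := fun g hg => by
    rw [← QuotientGroup.eq_one_iff]
    have : (g : Γ ⧸ K) ∈ τ.ker := hg
    rwa [hbot, Subgroup.mem_bot] at this
  calc Nat.card σ.ker ≤ Nat.card K := Subgroup.card_le_of_le hle
    _ = orderOf g0 := Nat.card_zpowers g0
    _ ≤ 2 := Nat.le_of_dvd (by norm_num) (orderOf_dvd_of_pow_eq_one hg2)

end Cfsg.Agent.SpMult50
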