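import Cfsg.Agent.SpMult50.SixTable
import Cfsg.Agent.Lib.Symplectic.Simple
import Cfsg.Agent.Lib.Schur.Perfect

/-!
The double cover of `Sp_6(2)`: Clifford lifts of the reflections in the roots of type `E7`, in
dimension eight over the field of three elements (helper50).
-/

set_option autoImplicit false

namespace Cfsg.Agent.SpMult50

open Matrix Cfsg.Agent.Symplectic
open scoped commutatorElement

/-- The Clifford element of a vector. -/
def gm (x : Fin 7 → ZMod 3) : Matrix (Fin 8) (Fin 8) (ZMod 3) := ∑ i, x i • gam i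

theorem gm_add (x y : Fin 7 → ZMod 3) : gm (x + y) = gm x + gm y := by
  simp only [gm, Pi.add_apply, add_smul, Finset.sum_add_distrib]

theorem gm_smul (c : ZMod 3) (x : Fin 7 → ZMod 3) : gm (c • x) = c • gm x := by
  simp only [gm, Pi.smul_apply, smul_eq_mul, mul_smul, Finset.smul_sum]

theorem gm_injective : Function.Injective gm := by
  intro x y h
  funext k
  have e : ∀ z : Fin 7 → ZMod 3, gm z k.succ 0 = z k := fun z => by
    simp [gm, Matrix.sum_apply, gam_col]
  rw [← e x, h, e y]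

theorem gm_rel (x y : Fin 7 → ZMod 3) : gm x * gm y + gm y * gm x = dot7 x y • 1 := by
  have h1 : gm x * gm y = ∑ i, ∑ j, (x i * y j) • (gam i * gam j) := by
    rw [gm, gm, Finset.sum_mul_sum]
    simp only [smul_mul_smul_comm]
  have h2 : gm y * gm x = ∑ i, ∑ j, (x i * y j) • (gam j * gam i) := by
    rw [gm, gm, Finset.sum_mul_sum, Finset.sum_comm]
    simp only [smul_mul_smul_comm, mul_comm (y _)]
  rw [h1, h2, ← Finset.sum_add_distrib]
  simp only [← Finset.sum_add_distrib, ← smul_add, gam_rel, smul_ite, smul_zero, Finset.sum_ite_eq,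
    Finset.mem_univ, if_true, ← Finset.sum_smul]
  congr 1
  simp [dot7, Fin.sum_univ_seven]

theorem three_smul_zero (M : Matrix (Fin 8) (Fin 8) (ZMod 3)) : M + M + M = 0 := by
  have h3 : (1 + 1 + 1 : ZMod 3) = 0 := by decide
  rw [← one_smul (ZMod 3) M, ← add_smul, ← add_smul, h3, zero_smul]

theorem gm_sq {x : Fin 7 → ZMod 3} (h : dot7 x x = 1) : gm x * gm x = -1 := by
  have h1 := gm_rel x x
  rw [h, one_smul] at h1
  refine eq_neg_of_add_eq_zero_left ?_
  rw [← h1, ← add_assoc, three_smul_zero]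

theorem gm_refl {a : Fin 7 → ZMod 3} (ha : dot7 a a = 1) (x : Fin 7 → ZMod 3) :
    gm a * gm x * (-gm a) = -gm (refl7 a x) := by
  have hr : refl7 a x = x + dot7 a x • a := rfl
  have e : gm a * gm x = dot7 a x • 1 - gm x * gm a := eq_sub_of_add_eq (gm_rel a x)
  rw [hr, gm_add, gm_smul, e, sub_mul, smul_mul_assoc, one_mul, mul_assoc, mul_neg, gm_sq ha,
    neg_neg, mul_one, smul_neg]
  abel

theorem cdec_cenc (w : Vec 3 (ZMod 2)) : cdec (cenc w) = w := by
  funext k
  rw [cenc, cdec_cenc_aux]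
  rcases k with k | k <;> fin_cases k <;> rfl

theorem cenc_zero : cenc 0 = 0 := by decide +kernel

theorem cenc_ne_zero {w : Vec 3 (ZMod 2)} (hw : w ≠ 0) : cenc w ≠ 0 := by
  intro h
  refine hw ?_
  rw [← cdec_cenc w, h, ← cenc_zero, cdec_cenc]

theorem sympForm_cdec (a b : Fin 64) : sympForm 3 (ZMod 2) (cdec b) (cdec a) = bitF (omC a b) := by
  rw [bitF_omC, sympForm_eq_sum, Fin.sum_univ_three]

/-- The root of a vector. -/
def vv (w : Vec 3 (ZMod 2)) : Fin 7 → ZMod 3 := vt (cenc w)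

theorem vv_norm {w : Vec 3 (ZMod 2)} (hw : w ≠ 0) : dot7 (vv w) (vv w) = 1 :=
  vt_norm _ (cenc_ne_zero hw)

theorem vv_ne_zero {w : Vec 3 (ZMod 2)} (hw : w ≠ 0) : vv w ≠ 0 := by
  intro h
  have := vv_norm hw
  rw [h] at this
  simp [dot7] at this

theorem tv_smul_cenc (u w : Vec 3 (ZMod 2)) :
    cenc (Symplectic.tv u 1 • w) = actC (cenc u) (cenc w) := by
  have h : cdec (actC (cenc u) (cenc w)) = Symplectic.tv u 1 • w := by
    funext k
    rw [cdec_actC, ← sympForm_cdec, cdec_cenc, cdec_cenc, Symplectic.tv_smul, one_mul]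
    rfl
  rw [← h, cenc_cdec]

theorem vv_ref {u : Vec 3 (ZMod 2)} (hu : u ≠ 0) (w : Vec 3 (ZMod 2)) :
    ∃ c : ZMod 3, (c = 1 ∨ c = -1) ∧ refl7 (vv u) (vv w) = c • vv (Symplectic.tv u 1 • w) := by
  rw [vv, vv, vv, tv_smul_cenc]
  rcases vt_ref (cenc u) (cenc w) (cenc_ne_zero hu) with h | h
  · exact ⟨1, Or.inl rfl, funext fun k => by rw [one_smul]; exact h k⟩
  · exact ⟨-1, Or.inr rfl, funext fun k => by rw [neg_one_smul]; exact h k⟩

theorem vv_nonorth {u w : Vec 3 (ZMod 2)} (h : sympForm 3 (ZMod 2) w u = 1) :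
    dot7 (vv u) (vv w) ≠ 0 := by
  refine vt_nonorth _ _ ?_
  have := sympForm_cdec (cenc u) (cenc w)
  rw [cdec_cenc, cdec_cenc, h] at this
  cases hb : omC (cenc u) (cenc w)
  · rw [hb] at this; simp [bitF] at this
  · rfl

/-- The Clifford lift of a root. -/
def gU (u : Vec 3 (ZMod 2)) (hu : u ≠ 0) : (Matrix (Fin 8) (Fin 8) (ZMod 3))ˣ where
  val := gm (vv u)
  inv := -gm (vv u)
  val_inv := by rw [mul_neg, gm_sq (vv_norm hu), neg_neg]
  inv_val := by rw [neg_mul, gm_sq (vv_norm hu), neg_neg]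

theorem conj_step {R : Type*} [Ring R] [Algebra (ZMod 3) R] (g k : Rˣ) {X Y Z : R} {c d : ZMod 3}
    (h : k.val * X * k⁻¹.val = c • Y) (h' : g.val * Y * g⁻¹.val = d • Z) :
    (g * k).val * X * (g * k)⁻¹.val = (c * d) • Z := by
  rw [_root_.mul_inv_rev, Units.val_mul, Units.val_mul,
    show g.val * k.val * X * (k⁻¹.val * g⁻¹.val) = g.val * (k.val * X * k⁻¹.val) * g⁻¹.val by
      simp only [mul_assoc],
    h, mul_smul_comm, smul_mul_assoc, h', smul_smul]

theorem conj_back {R : Type*} [Ring R] [Algebra (ZMod 3) R] (g : Rˣ) {X Y : R} {c : ZMod 3}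
    (hc : c = 1 ∨ c = -1) (h : g.val * Y * g⁻¹.val = c • X) :
    g⁻¹.val * X * g.val = c • Y := by
  have hcc : c * c = 1 := by rcases hc with rfl | rfl <;> simp
  have e : X = c • (g.val * Y * g⁻¹.val) := by rw [h, smul_smul, hcc, one_smul]
  rw [e, mul_smul_comm, smul_mul_assoc, mul_assoc g.val, Units.inv_mul_cancel_left,
    Units.inv_mul_cancel_right]

/-- The pairs compatible on all roots, up to sign. -/
def compat : Subgroup ((Matrix (Fin 8) (Fin 8) (ZMod 3))ˣ × Sp 3 (ZMod 2)) where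
  carrier := {p | ∀ w : Vec 3 (ZMod 2), ∃ c : ZMod 3, (c = 1 ∨ c = -1) ∧
    p.1.val * gm (vv w) * p.1⁻¹.val = c • gm (vv (p.2 • w))}
  one_mem' := fun w => ⟨1, Or.inl rfl, by
    rw [Prod.fst_one, Prod.snd_one, inv_one, Units.val_one, one_mul, mul_one, one_smul, one_smul]⟩
  mul_mem' := by
    intro p r hp hr w
    obtain ⟨c, hc, h⟩ := hr w
    obtain ⟨d, hd, h'⟩ := hp (r.2 • w)
    refine ⟨c * d, by rcases hc with rfl | rfl <;> rcases hd with rfl | rfl <;> simp, ?_⟩
    have := conj_step p.1 r.1 h h'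
    rw [← mul_smul p.2 r.2 w] at this
    exact this
  inv_mem' := by
    intro p hp w
    obtain ⟨c, hc, h⟩ := hp (p.2⁻¹ • w)
    rw [smul_inv_smul] at h
    refine ⟨c, hc, ?_⟩
    rw [Prod.fst_inv, Prod.snd_inv, inv_inv]
    exact conj_back p.1 hc h

/-- The generators. -/
def gen (u : Vec 3 (ZMod 2)) (hu : u ≠ 0) :
    (Matrix (Fin 8) (Fin 8) (ZMod 3))ˣ × Sp 3 (ZMod 2) :=
  (gU u hu, Symplectic.tv u 1)

theorem gen_mem (u : Vec 3 (ZMod 2)) (hu : u ≠ 0) : gen u hu ∈ compat := by
  intro w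
  obtain ⟨c, hc, h⟩ := vv_ref hu w
  refine ⟨-c, by rcases hc with rfl | rfl <;> simp, ?_⟩
  show gm (vv u) * gm (vv w) * (-gm (vv u)) = _
  rw [gm_refl (vv_norm hu), h, gm_smul, neg_smul]
  rfl

/-- The covering group before taking the derived subgroup. -/
def cov0 : Subgroup ((Matrix (Fin 8) (Fin 8) (ZMod 3))ˣ × Sp 3 (ZMod 2)) :=
  Subgroup.closure {p | ∃ (u : Vec 3 (ZMod 2)) (hu : u ≠ 0), p = gen u hu}

theorem cov0_le : cov0 ≤ compat :=
  (Subgroup.closure_le _).2 fun _ ⟨u, hu, hp⟩ => hp ▸ gen_mem u hu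

/-- The projection. -/
def covMap : cov0 →* Sp 3 (ZMod 2) := (MonoidHom.snd _ _).comp cov0.subtype

theorem covMap_surjective : Function.Surjective covMap := by
  rw [← MonoidHom.range_eq_top, eq_top_iff, ← tvGroup_empty, tvGroup, Subgroup.closure_le]
  rintro _ ⟨w, -, c, rfl⟩
  have hc : c = 0 ∨ c = 1 := by revert c; decide
  rcases hc with rfl | rfl
  · rw [Symplectic.tv_zero]; exact one_mem _
  by_cases hw : w = 0
  · have : Symplectic.tv w (1 : ZMod 2) = 1 := eq_of_smul_eq fun x => by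
      simp [Symplectic.tv_smul, hw]
    rw [this]; exact one_mem _
  · exact ⟨⟨gen w hw, Subgroup.subset_closure ⟨w, hw, rfl⟩⟩, rfl⟩

theorem cov_ker_central : covMap.ker ≤ Subgroup.center cov0 := by
  rintro ⟨p, hp⟩ hker
  have hp2 : p.2 = 1 := hker
  have hcompat := cov0_le hp
  set g := p.1 with hg
  have hsign : ∀ w : Vec 3 (ZMod 2), ∃ c : ZMod 3, (c = 1 ∨ c = -1) ∧
      g.val * gm (vv w) = c • (gm (vv w) * g.val) := by
    intro w
    obtain ⟨c, hc, h⟩ := hcompat w
    refine ⟨c, hc, ?_⟩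
    rw [hp2, one_smul] at h
    calc g.val * gm (vv w) = g.val * gm (vv w) * g⁻¹.val * g.val := by
          rw [Units.inv_mul_cancel_right]
      _ = _ := by rw [h, smul_mul_assoc]
  choose s hs1 hs2 using hsign
  have hinj : ∀ {x y : Fin 7 → ZMod 3}, gm x * g.val = gm y * g.val → x = y := fun {x y} h =>
    gm_injective ((Units.mul_left_inj g).1 h)
  have edge : ∀ {u w : Vec 3 (ZMod 2)}, u ≠ 0 → w ≠ 0 → sympForm 3 (ZMod 2) w u = 1 →
      s u = s w := by
    intro u w hu hw huw
    obtain ⟨c, hc, h⟩ := vv_ref hu w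
    set z := Symplectic.tv u 1 • w
    have hr : refl7 (vv u) (vv w) = vv w + dot7 (vv u) (vv w) • vv u := rfl
    set d := dot7 (vv u) (vv w) with hd
    have hd0 : d ≠ 0 := vv_nonorth huw
    have hcc : c * c = 1 := by rcases hc with rfl | rfl <;> simp
    have hz : vv z = c • (vv w + d • vv u) := by rw [← hr, h, smul_smul, hcc, one_smul]
    have h1 := hs2 z
    rw [hz, gm_smul, gm_add, gm_smul, mul_smul_comm, mul_add, mul_smul_comm, hs2 w, hs2 u,
      smul_mul_assoc, smul_comm (s z) c] at h1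
    have hc0 : c ≠ 0 := by rintro rfl; simp at hcc
    have h2 := smul_right_injective _ hc0 h1
    have h3 : (s w • vv w + (d * s u) • vv u) = s z • (vv w + d • vv u) := by
      refine hinj ?_
      rw [gm_add, gm_smul, gm_smul, add_mul, smul_mul_assoc, smul_mul_assoc, gm_smul, smul_mul_assoc,
        gm_add, gm_smul]
      rw [mul_smul]
      exact h2
    have h4 : (s w - s z) • vv w + (d * (s u - s z)) • vv u = 0 := by
      rw [sub_smul, mul_sub, sub_smul, mul_smul d (s z)]
      rw [smul_add, smul_comm (s z) d] at h3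
      rw [sub_add_sub_comm, h3, sub_self]
    by_contra hne
    by_cases hwz : s w = s z
    · rw [hwz, sub_self, zero_smul, zero_add] at h4
      rcases smul_eq_zero.1 h4 with h5 | h5
      · exact hne ((sub_eq_zero.1 ((mul_eq_zero.1 h5).resolve_left hd0)).trans hwz.symm)
      · exact vv_ne_zero hu h5
    · have huz : s u = s z := by
        rcases hs1 u with e1 | e1 <;> rcases hs1 w with e2 | e2 <;> rcases hs1 z with e3 | e3 <;>
          simp_all
      rw [huz, sub_self, mul_zero, zero_smul, add_zero] at h4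
      rcases smul_eq_zero.1 h4 with h5 | h5
      · exact hwz (sub_eq_zero.1 h5)
      · exact vv_ne_zero hw h5
  have hone : ∀ x : ZMod 2, x ≠ 0 → x = 1 := by decide
  have const : ∀ {u w : Vec 3 (ZMod 2)}, u ≠ 0 → w ≠ 0 → s u = s w := by
    intro u w hu hw
    obtain ⟨y, hy1, hy2⟩ := exists_nonorth hu hw
    have hy0 : y ≠ 0 := fun e => hy1 (by simp [e])
    exact (edge hy0 hu (hone _ hy1)).symm.trans (edge hy0 hw (hone _ hy2))
  have hco : ∀ i : Fin 7, ∃ w : Vec 3 (ZMod 2), w ≠ 0 ∧ gm (vv w) = gam i := by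
    intro i
    refine ⟨cdec ((![1, 2, 6, 3, 4, 5, 7] : Fin 7 → Fin 64) i), fun e => ?_, ?_⟩
    · have := congrArg cenc e
      rw [cenc_cdec, cenc_zero] at this
      revert this; revert i; decide
    · rw [vv, cenc_cdec, gm]
      simp [vt_coord]
  obtain ⟨w0, hw0, -⟩ := hco 0
  rcases hs1 w0 with hp1 | hp1
  · refine Subgroup.mem_center_iff.2 ?_
    rintro ⟨r, hr⟩
    refine Subtype.ext ?_
    show r * p = p * r
    induction hr using Subgroup.closure_induction with
    | mem r hr =>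
      obtain ⟨u, hu, rfl⟩ := hr
      refine Prod.ext (Units.ext ?_) ?_
      · show gm (vv u) * g.val = g.val * gm (vv u)
        rw [hs2 u, const hu hw0, hp1, one_smul]
      · show Symplectic.tv u 1 * p.2 = p.2 * Symplectic.tv u 1
        rw [hp2, mul_one, one_mul]
    | one => rw [one_mul, mul_one]
    | mul a b _ _ ha hb => rw [mul_assoc, hb, ← mul_assoc, ha, mul_assoc]
    | inv a _ ha => exact (Commute.inv_left (show Commute a p from ha)).eq
  · exfalso
    have hi : ∀ i, g.val * gam i = -(gam i * g.val) := by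
      intro i
      obtain ⟨w, hw, hwi⟩ := hco i
      rw [← hwi, hs2 w, const hw hw0, hp1, neg_one_smul]
    have hP : g.val * (gam 0 * gam 1 * gam 2 * gam 3 * gam 4 * gam 5 * gam 6) =
        -((gam 0 * gam 1 * gam 2 * gam 3 * gam 4 * gam 5 * gam 6) * g.val) := by
      simp only [← mul_assoc, hi, neg_mul, mul_assoc _ g.val, mul_neg, neg_neg]
    rw [gam_prod, mul_smul_comm, smul_mul_assoc, mul_one, one_mul, two_nsmul] at hP
    have h4 : g.val + g.val + g.val + g.val = 0 := by
      rw [add_assoc (g.val + g.val)]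
      nth_rewrite 1 [hP]
      exact neg_add_cancel _
    rw [three_smul_zero, zero_add] at h4
    have h5 : (1 : Matrix (Fin 8) (Fin 8) (ZMod 3)) = 0 := by
      rw [← Units.mul_inv g, h4, zero_mul]
    exact one_ne_zero h5

/-- The double cover. -/
def cov : Subgroup cov0 := commutator cov0

/-- The covering map. -/
def covPi : cov →* Sp 3 (ZMod 2) := covMap.comp cov.subtype

theorem covPi_surjective : Function.Surjective covPi := by
  rw [← MonoidHom.range_eq_top, covPi, MonoidHom.range_eq_map, ← Subgroup.map_map,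
    ← MonoidHom.range_eq_map, Subgroup.range_subtype, cov, _root_.commutator_def,
    Subgroup.map_commutator, Subgroup.map_top_of_surjective _ covMap_surjective,
    ← _root_.commutator_def, Symplectic.commutator_eq_top_of_three_le le_rfl]

theorem covPi_stem : Cfsg.IsStemExtension covPi := by
  refine ⟨covPi_surjective, fun x hx => ?_, fun x _ => ?_⟩
  · rw [Subgroup.mem_center_iff]
    intro y
    exact Subtype.ext (Subgroup.mem_center_iff.1 (cov_ker_central (show (x : cov0) ∈ covMap.ker from hx)) y)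
  · have hle : cov ≤ (commutator cov).map cov.subtype := by
      rw [Subgroup.map_subtype_commutator, cov, _root_.commutator_def, Subgroup.commutator_le]
      intro a _ b _
      have key : ∀ a : cov0, ∃ a' ∈ commutator cov0, ∃ z ∈ Subgroup.center cov0, a = a' * z := by
        intro a
        obtain ⟨a', ha'⟩ := covPi_surjective (covMap a)
        refine ⟨a', a'.2, (a' : cov0)⁻¹ * a, cov_ker_central ?_, by group⟩
        have ha'' : covMap (a' : cov0) = covMap a := ha'
        rw [MonoidHom.mem_ker, map_mul, map_inv, ha'', inv_mul_cancel]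
      obtain ⟨a', ha', z, hz, rfl⟩ := key a
      obtain ⟨b', hb', z', hz', rfl⟩ := key b
      rw [Cfsg.Agent.Schur.commutatorElement_mul_central hz hz']
      exact Subgroup.commutator_mem_commutator ha' hb'
    obtain ⟨y, hy, hyx⟩ := hle x.2
    rwa [Subtype.ext (a1 := y) (a2 := x) hyx] at hy

set_option maxHeartbeats 400000 in
theorem covPi_ker_ne_bot : covPi.ker ≠ ⊥ := by
  intro hbot
  have he : ∀ i : Fin 3, (eI i : Vec 3 (ZMod 2)) ≠ 0 := fun i => eI_ne_zero i
  let a : cov0 := ⟨gen (eI 0) (he 0), Subgroup.subset_closure ⟨_, he 0, rfl⟩⟩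
  let b : cov0 := ⟨gen (eI 1) (he 1), Subgroup.subset_closure ⟨_, he 1, rfl⟩⟩
  have hc : ⁅a, b⁆ ∈ cov :=
    Subgroup.commutator_mem_commutator (Subgroup.mem_top _) (Subgroup.mem_top _)
  have hker : (⟨⁅a, b⁆, hc⟩ : cov) ∈ covPi.ker := by
    show covMap ⁅a, b⁆ = 1
    rw [map_commutatorElement, commutatorElement_eq_one_iff_mul_comm]
    exact (commute_tv_six (sympForm_eI_eI 0 1)).eq
  rw [hbot, Subgroup.mem_bot] at hker
  have hab : a * b = b * a := commutatorElement_eq_one_iff_mul_comm.1 (congrArg Subtype.val hker)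
  have hfst : gU (eI 0) (he 0) * gU (eI 1) (he 1) = gU (eI 1) (he 1) * gU (eI 0) (he 0) := by
    have := congrArg (fun x : cov0 => (x : (Matrix (Fin 8) (Fin 8) (ZMod 3))ˣ × Sp 3 (ZMod 2)).1) hab
    simpa only [Subgroup.coe_mul, Prod.fst_mul, a, b, gen] using this
  have hab' : gm (vv (eI 0)) * gm (vv (eI 1)) = gm (vv (eI 1)) * gm (vv (eI 0)) := by
    have := congrArg Units.val hfst
    simpa only [Units.val_mul, gU] using this
  have hdot : dot7 (vv (eI 0)) (vv (eI 1)) = 0 := by decide +kernel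
  have hrel := gm_rel (vv (eI (0 : Fin 3) : Vec 3 (ZMod 2))) (vv (eI 1))
  rw [hdot, zero_smul, ← hab'] at hrel
  have h0 : gm (vv (eI 0)) * gm (vv (eI 1)) = 0 := by
    have h3 := three_smul_zero (gm (vv (eI 0)) * gm (vv (eI 1)))
    rw [hrel, zero_add] at h3
    exact h3
  have hu : IsUnit (gm (vv (eI 0)) * gm (vv (eI 1))) :=
    ((gU (eI 0) (he 0)) * gU (eI 1) (he 1)).isUnit
  rw [h0] at hu
  exact not_isUnit_zero hu
where
  commute_tv_six {u w : Vec 3 (ZMod 2)} (h : sympForm 3 (ZMod 2) u w = 0) :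
      Commute (Symplectic.tv u 1) (Symplectic.tv w 1) := by
    have h' : sympForm 3 (ZMod 2) w u = 0 := by rw [sympForm_swap, h, neg_zero]
    have e := conj_tv (Symplectic.tv u 1) w 1
    rw [tv_smul_of_orth 1 h'] at e
    exact mul_inv_eq_iff_eq_mul.1 e

end Cfsg.Agent.SpMult50
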