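import Cfsg.Agent.SpMult50.SixBound
import Cfsg.Agent.SpMult50.SixCover

/-!
The multiplier of `PSp_6(2)` has order two (helper50).
-/

set_option autoImplicit false

namespace Cfsg.Agent.SpMult50

open Matrix Cfsg.Agent.Symplectic

universe u v w

theorem map_J {K : Type u} {F : Type v} [CommRing K] [CommRing F] (e : K →+* F) (m : ℕ) :
    (Matrix.J (Fin m) K).map e = Matrix.J (Fin m) F := by
  ext i j
  rcases i with i | i <;> rcases j with j | j <;>
    simp [Matrix.J, Matrix.map_apply, Matrix.one_apply, apply_ite e]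

/-- Transport along a ring isomorphism. -/
noncomputable def spMap {K : Type u} {F : Type v} [Field K] [Field F] (e : K ≃+* F) (m : ℕ) :
    Sp m K ≃* Sp m F where
  toFun A := ⟨(A : Matrix (Fin m ⊕ Fin m) (Fin m ⊕ Fin m) K).map e, by
    have h := SymplecticGroup.mem_iff.1 A.2
    rw [SymplecticGroup.mem_iff, ← map_J (e : K →+* F), ← Matrix.transpose_map]
    change (A : Matrix (Fin m ⊕ Fin m) (Fin m ⊕ Fin m) K).map (e : K →+* F) * _ * (A : Matrix (Fin m ⊕ Fin m) (Fin m ⊕ Fin m) K)ᵀ.map (e : K →+* F) = _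
    rw [← Matrix.map_mul, ← Matrix.map_mul, h]⟩
  invFun A := ⟨(A : Matrix (Fin m ⊕ Fin m) (Fin m ⊕ Fin m) F).map e.symm, by
    have h := SymplecticGroup.mem_iff.1 A.2
    rw [SymplecticGroup.mem_iff, ← map_J (e.symm : F →+* K), ← Matrix.transpose_map]
    change (A : Matrix (Fin m ⊕ Fin m) (Fin m ⊕ Fin m) F).map (e.symm : F →+* K) * _ * (A : Matrix (Fin m ⊕ Fin m) (Fin m ⊕ Fin m) F)ᵀ.map (e.symm : F →+* K) = _
    rw [← Matrix.map_mul, ← Matrix.map_mul, h]⟩
  left_inv A := Subtype.ext (by ext i j; simp)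
  right_inv A := Subtype.ext (by ext i j; simp)
  map_mul' A B := Subtype.ext (by
    change ((A : Matrix (Fin m ⊕ Fin m) (Fin m ⊕ Fin m) K) *
      (B : Matrix (Fin m ⊕ Fin m) (Fin m ⊕ Fin m) K)).map (e : K →+* F) = _
    rw [Matrix.map_mul]
    rfl)

theorem isStemExtension_comp_equiv {G : Type u} {H : Type v} {Γ : Type w} [Group G] [Group H]
    [Group Γ] (e : G ≃* H) {σ : Γ →* G} (hσ : Cfsg.IsStemExtension σ) :
    Cfsg.IsStemExtension (e.toMonoidHom.comp σ) := by
  have hk : (e.toMonoidHom.comp σ).ker = σ.ker := by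
    ext x
    simp [MonoidHom.mem_ker]
  exact ⟨e.surjective.comp hσ.1, hk ▸ hσ.2.1, hk ▸ hσ.2.2⟩

theorem card_ker_comp_equiv {G : Type u} {H : Type v} {Γ : Type w} [Group G] [Group H] [Group Γ]
    (e : G ≃* H) (σ : Γ →* G) : Nat.card (e.toMonoidHom.comp σ).ker = Nat.card σ.ker := by
  congr 2
  ext x
  simp [MonoidHom.mem_ker]

/-- **The multiplier of `PSp_6(2)`.** -/
theorem hasCyclicSchurMultiplier_PSp_six {F : Type v} [Field F] [Fintype F]
    (hF : Fintype.card F = 2) : Cfsg.HasCyclicSchurMultiplier (Cfsg.PSp 3 F) 2 := by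
  have hcen : Subgroup.center (Sp 3 F) = ⊥ :=
    Subgroup.card_eq_one.1 ((card_center hF (by norm_num)).trans (by norm_num))
  let π : Sp 3 F →* Cfsg.PSp 3 F := QuotientGroup.mk' _
  have hπ : Function.Bijective π := by
    refine ⟨(MonoidHom.ker_eq_bot_iff π).1 ?_, QuotientGroup.mk'_surjective _⟩
    exact (QuotientGroup.ker_mk' _).trans hcen
  let e : Sp 3 F ≃* Cfsg.PSp 3 F := MulEquiv.ofBijective π hπ
  let e0 : Sp 3 (ZMod 2) ≃* Cfsg.PSp 3 F :=
    (spMap (ZMod.ringEquivOfPrime F Nat.prime_two hF) 3).trans e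
  have bound : ∀ (Γ : Type v) [Group Γ] [Finite Γ] (σ : Γ →* Cfsg.PSp 3 F),
      Cfsg.IsStemExtension σ → Nat.card σ.ker ≤ 2 := fun Γ _ _ σ hσ => by
    rw [← card_ker_comp_equiv e.symm σ]
    exact card_ker_six_le_two hF _ (isStemExtension_comp_equiv e.symm hσ)
  set σ₁ := e0.toMonoidHom.comp covPi with hσ₁
  have h1 : Cfsg.IsStemExtension σ₁ := isStemExtension_comp_equiv e0 covPi_stem
  have hcard : Nat.card σ₁.ker = 2 := by
    rw [hσ₁, card_ker_comp_equiv]
    refine le_antisymm ?_ ?_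
    · exact card_ker_six_le_two (F := ZMod 2) (ZMod.card 2) _ covPi_stem
    · exact Finite.one_lt_card_iff_nontrivial.2
        ((Subgroup.nontrivial_iff_ne_bot _).2 covPi_ker_ne_bot)
  have : Fact (Nat.Prime 2) := ⟨Nat.prime_two⟩
  have hcyc : IsCyclic σ₁.ker := isCyclic_of_prime_card hcard
  refine Cfsg.Agent.Schur.hasSchurMultiplier_of_card_le σ₁ h1
    (mulEquivOfCyclicCardEq (by rw [hcard]; simp)) fun Γ _ _ σ hσ => ?_
  calc Nat.card σ.ker ≤ 2 := bound Γ σ hσ
    _ = Nat.card (Multiplicative (ZMod 2)) := by simp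

end Cfsg.Agent.SpMult50
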