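import Cfsg.Agent.Lib.Symplectic.Perfect
import Cfsg.Agent.CharB.PSLMult.PPrime
import Cfsg.Agent.CharB.PSLMult.Cover

/-!
Lifts of transvections of a symplectic group in a central extension with kernel prime to the
characteristic, and their behaviour on a hyperbolic plane (helper50).
-/

set_option autoImplicit false

namespace Cfsg.Agent.SpMult50

open Matrix Cfsg.Agent.Symplectic Cfsg.Agent.CharB.PSLMult

universe v

variable {m : ℕ} {F : Type v} [Field F]

theorem tv_pow' (w : Vec m F) (c : F) : ∀ k : ℕ, Symplectic.tv w c ^ k = Symplectic.tv w ((k : F) * c)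
  | 0 => by simp
  | k + 1 => by rw [pow_succ, tv_pow' w c k, tv_mul_tv]; congr 1; push_cast; ring

theorem pel_tv' {p : ℕ} [CharP F p] (w : Vec m F) (c : F) : Pel p (Symplectic.tv w c) :=
  ⟨1, by rw [pow_one, tv_pow', CharP.cast_eq_zero, zero_mul, tv_zero]⟩

/-- The linear map of a matrix acting on the plane of a hyperbolic pair. -/
def planeLin (e f : Vec m F) (A : Matrix (Fin 2) (Fin 2) F) : Vec m F →ₗ[F] Vec m F where
  toFun x := x + ((A 0 0 - 1) * sympForm m F x f + A 0 1 * sympForm m F e x) • e +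
    (A 1 0 * sympForm m F x f + (A 1 1 - 1) * sympForm m F e x) • f
  map_add' x y := by simp only [sympForm_add_left, sympForm_add_right]; module
  map_smul' a x := by
    simp only [sympForm_smul_left, sympForm_smul_right, RingHom.id_apply]; module

theorem planeLin_apply (e f : Vec m F) (A : Matrix (Fin 2) (Fin 2) F) (x : Vec m F) :
    planeLin e f A x = x + ((A 0 0 - 1) * sympForm m F x f + A 0 1 * sympForm m F e x) • e +
      (A 1 0 * sympForm m F x f + (A 1 1 - 1) * sympForm m F e x) • f := rfl

theorem planeLin_mem {e f : Vec m F} (h : sympForm m F e f = 1) (A : SpecialLinearGroup (Fin 2) F) :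
    LinearMap.toMatrix' (planeLin e f A) ∈ Matrix.symplecticGroup (Fin m) F := by
  rw [mem_iff_form]
  intro x y
  have hA : (A : Matrix (Fin 2) (Fin 2) F) 0 0 * (A : Matrix (Fin 2) (Fin 2) F) 1 1 -
      (A : Matrix (Fin 2) (Fin 2) F) 0 1 * (A : Matrix (Fin 2) (Fin 2) F) 1 0 = 1 := by
    rw [← Matrix.det_fin_two]; exact A.2
  simp only [LinearMap.toMatrix'_mulVec, planeLin_apply, sympForm_add_left, sympForm_add_right,
    sympForm_smul_left, sympForm_smul_right, sympForm_self, h, sympForm_swap f e,
    sympForm_swap x e, sympForm_swap f y]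
  linear_combination (sympForm m F x f * sympForm m F e y - sympForm m F e x * sympForm m F y f) * hA

/-- The special linear group of a hyperbolic plane. -/
def plane {e f : Vec m F} (h : sympForm m F e f = 1) : SpecialLinearGroup (Fin 2) F →* Sp m F where
  toFun A := ⟨LinearMap.toMatrix' (planeLin e f A), planeLin_mem h A⟩
  map_one' := by
    refine eq_of_smul_eq fun x => ?_
    rw [one_smul, smul_eq]
    show LinearMap.toMatrix' _ *ᵥ x = x
    simp [LinearMap.toMatrix'_mulVec, planeLin_apply]
  map_mul' A B := by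
    refine eq_of_smul_eq fun x => ?_
    rw [mul_smul, smul_eq, smul_eq, smul_eq]
    show LinearMap.toMatrix' _ *ᵥ x = LinearMap.toMatrix' _ *ᵥ (LinearMap.toMatrix' _ *ᵥ x)
    have hAB : ((A * B : SpecialLinearGroup (Fin 2) F) : Matrix (Fin 2) (Fin 2) F) =
        (A : Matrix (Fin 2) (Fin 2) F) * (B : Matrix (Fin 2) (Fin 2) F) := rfl
    simp only [LinearMap.toMatrix'_mulVec, planeLin_apply, hAB,
      Matrix.mul_apply, Fin.sum_univ_two, sympForm_add_left, sympForm_add_right, sympForm_smul_left,
      sympForm_smul_right, sympForm_self, h, sympForm_swap f e]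
    module

theorem plane_smul {e f : Vec m F} (h : sympForm m F e f = 1) (A : SpecialLinearGroup (Fin 2) F)
    (x : Vec m F) : plane h A • x = planeLin e f A x := by
  rw [smul_eq]; exact LinearMap.toMatrix'_mulVec _ _

/-- The coordinates of the image on the plane. -/
theorem plane_coord {e f : Vec m F} (h : sympForm m F e f = 1) (A : SpecialLinearGroup (Fin 2) F)
    (x : Vec m F) :
    (A : Matrix (Fin 2) (Fin 2) F) *ᵥ ![sympForm m F x f, sympForm m F e x] =
      ![sympForm m F (plane h A • x) f, sympForm m F e (plane h A • x)] := by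
  ext i
  fin_cases i <;>
    simp [plane_smul, planeLin_apply, sympForm_add_left, sympForm_add_right, sympForm_smul_left,
      sympForm_smul_right, h, mulVec, dotProduct, Fin.sum_univ_two] <;> ring

theorem plane_injective {e f : Vec m F} (h : sympForm m F e f = 1) :
    Function.Injective (plane h) := by
  intro A B hAB
  apply Subtype.ext
  have key : ∀ x : Vec m F, (A : Matrix (Fin 2) (Fin 2) F) *ᵥ ![sympForm m F x f, sympForm m F e x] =
      (B : Matrix (Fin 2) (Fin 2) F) *ᵥ ![sympForm m F x f, sympForm m F e x] := fun x => by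
    rw [plane_coord h, plane_coord h, hAB]
  have h0 := key e
  have h1 := key f
  rw [h, sympForm_self] at h0 h1
  ext i j
  fin_cases j
  · simpa [mulVec, dotProduct, Fin.sum_univ_two] using congrFun h0 i
  · simpa [mulVec, dotProduct, Fin.sum_univ_two] using congrFun h1 i

theorem tv_mem_plane {e f : Vec m F} (h : sympForm m F e f = 1) (s t c : F) :
    Symplectic.tv (s • e + t • f) c ∈ (plane h).range := by
  let A : SpecialLinearGroup (Fin 2) F :=
    ⟨!![1 + c * s * t, -(c * s * s); c * t * t, 1 - c * s * t], by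
      simp [Matrix.det_fin_two]; ring⟩
  refine ⟨A, eq_of_smul_eq fun x => ?_⟩
  rw [plane_smul, planeLin_apply, tv_smul]
  simp only [sympForm_add_right, sympForm_smul_right, sympForm_swap x e]
  simp [A]
  module

/-- An element of `SL₂` fixing a nonzero vector is a `p`-element. -/
theorem pel_of_fix {p : ℕ} [hp : Fact p.Prime] [CharP F p] (A : SpecialLinearGroup (Fin 2) F)
    {x : Fin 2 → F} (hx : x ≠ 0) (h : (A : Matrix (Fin 2) (Fin 2) F) *ᵥ x = x) : Pel p A := by
  set M : Matrix (Fin 2) (Fin 2) F := (A : Matrix (Fin 2) (Fin 2) F) with hM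
  have hd : (M - 1).det = 0 :=
    exists_mulVec_eq_zero_iff.1 ⟨x, hx, by rw [sub_mulVec, one_mulVec, h, sub_self]⟩
  have hdet : M.det = 1 := A.2
  rw [det_fin_two] at hd hdet
  simp at hd
  have ht : M 1 1 = 2 - M 0 0 := by linear_combination -hd + hdet
  have hsq : (M - 1) ^ 2 = 0 := by
    ext i j
    fin_cases i <;> fin_cases j <;>
      simp [pow_two, Matrix.mul_apply, Fin.sum_univ_two, ht]
    · rw [ht] at hdet; linear_combination -hdet
    · ring
    · ring
    · rw [ht] at hdet; linear_combination -hdet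
  refine ⟨1, Subtype.ext ?_⟩
  have hpow : ∀ k : ℕ, ((A ^ k : SpecialLinearGroup (Fin 2) F) : Matrix (Fin 2) (Fin 2) F) = M ^ k :=
    fun k => by
      induction k with
      | zero => rfl
      | succ k ih => rw [pow_succ, pow_succ, ← ih]; rfl
  refine (hpow (p ^ 1)).trans ?_
  rw [pow_one]
  show M ^ p = 1
  have e1 : (M - 1) ^ p = M ^ p - 1 := by
    rw [sub_pow_char_of_commute _ (Commute.one_right M), one_pow]
  have e2 : (M - 1) ^ p = 0 := pow_eq_zero_of_le hp.out.two_le hsq
  exact sub_eq_zero.1 (e1 ▸ e2)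

variable [Finite F] {p : ℕ} [CharP F p] {Γ : Type v} [Group Γ] [Finite Γ] {σ : Γ →* Sp m F}

/-- The canonical lift of a transvection. -/
noncomputable def T (E : PExt p σ) (w : Vec m F) (c : F) : Γ :=
  E.pl (Symplectic.tv w c) (pel_tv' w c)

variable (E : PExt p σ)

omit [Finite F] [Finite Γ] in
theorem pel_T (w : Vec m F) (c : F) : Pel p (T E w c) := E.pel_pl _

omit [Finite F] [Finite Γ] in
theorem map_T (w : Vec m F) (c : F) : σ (T E w c) = Symplectic.tv w c := E.map_pl _

omit [Finite F] [Finite Γ] in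
theorem T_congr {w w' : Vec m F} {c c' : F} (h : Symplectic.tv w c = Symplectic.tv w' c') :
    T E w c = T E w' c' :=
  E.uniq (pel_T E _ _) (pel_T E _ _) (by rw [map_T, map_T, h])

omit [Finite F] [Finite Γ] in
theorem T_inv (w : Vec m F) (c : F) : (T E w c)⁻¹ = T E w (-c) :=
  E.uniq (pel_T E _ _).inv (pel_T E _ _) (by rw [map_inv, map_T, map_T, Symplectic.tv_inv])

omit [Finite F] [Finite Γ] in
theorem T_conj (g : Γ) (w : Vec m F) (c : F) : g * T E w c * g⁻¹ = T E (σ g • w) c :=
  E.uniq ((pel_T E _ _).conj g) (pel_T E _ _) (by rw [map_mul, map_mul, map_inv, map_T, map_T, conj_tv])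

/-- A product of lifted transvections of a plane fixing a vector off the orthogonal of the plane
is a `p`-element. -/
theorem pel_of_plane {e f : Vec m F} (h : sympForm m F e f = 1) {g : Γ}
    (hg : g ∈ Subgroup.closure {x | ∃ s t c : F, x = T E (s • e + t • f) c})
    {u : Vec m F} (hu : sympForm m F e u ≠ 0) (hfix : σ g • u = u) : Pel p g := by
  classical
  haveI := Fact.mk E.prime
  set X := (plane h).range with hX
  set H := hat p σ X with hH
  have hgH : g ∈ H := by
    refine (Subgroup.closure_le _).2 ?_ hg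
    rintro _ ⟨s, t, c, rfl⟩
    exact mem_hat (pel_T E _ _) (by rw [map_T]; exact tv_mem_plane h s t c)
  have hsurj : H.map σ = X := by
    refine E.map_hat (S := plane h '' {A : SpecialLinearGroup (Fin 2) F |
      ∃ (i j : Fin 2) (hij : i ≠ j) (c : F), A = SpecialLinearGroup.transvection hij c}) ?_ ?_ ?_
    · rw [← MonoidHom.map_closure, LinearGroup.closure_transvection_eq_top,
        ← MonoidHom.range_eq_map]
    · rintro _ ⟨A, _, rfl⟩; exact ⟨A, rfl⟩
    · rintro _ ⟨A, ⟨i, j, hij, c, rfl⟩, rfl⟩
      refine Pel.map _ ?_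
      rw [transvection_eq_tv]
      exact pel_tv _
  let τ₀ : H →* X := (σ.comp H.subtype).codRestrict _ fun x => hat_le_comap (σ := σ) _ x.2
  let τ : H →* SpecialLinearGroup (Fin 2) F :=
    (MonoidHom.ofInjective (plane_injective h)).symm.toMonoidHom.comp τ₀
  have hτ : ∀ x : H, plane h (τ x) = σ x := fun x =>
    congrArg Subtype.val ((MonoidHom.ofInjective (plane_injective h)).apply_symm_apply (τ₀ x))
  have hker : ∀ x : H, x ∈ τ.ker ↔ (x : Γ) ∈ σ.ker := fun x => by
    rw [MonoidHom.mem_ker, MonoidHom.mem_ker, ← hτ x, map_eq_one_iff _ (plane_injective h)]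
  have Eτ : PExt p τ := by
    refine ⟨E.prime, fun A => ?_, fun x hx => ?_, fun hd => E.coprime ?_⟩
    · obtain ⟨x, hx, he⟩ : plane h A ∈ H.map σ := hsurj.symm ▸ ⟨A, rfl⟩
      exact ⟨⟨x, hx⟩, plane_injective h ((hτ ⟨x, hx⟩).trans he)⟩
    · rw [Subgroup.mem_center_iff]
      intro y
      exact Subtype.ext (Subgroup.mem_center_iff.1 (E.central ((hker x).1 hx)) y)
    · refine hd.trans (Subgroup.card_dvd_of_injective
        ((H.subtype.comp τ.ker.subtype).codRestrict σ.ker fun x => (hker x).1 x.2) ?_)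
      intro a b hab
      exact Subtype.ext (Subtype.ext (congrArg Subtype.val hab :))
  have hgen : Subgroup.closure {x : H | Pel p x} = ⊤ := by
    rw [eq_top_iff]
    refine le_trans (le_of_eq Subgroup.closure_closure_coe_preimage.symm) (Subgroup.closure_mono ?_)
    rintro ⟨x, hx⟩ ⟨⟨k, hk⟩, _⟩
    exact ⟨k, Subtype.ext hk⟩
  have hbot : τ.ker = ⊥ := ptriv_two H τ Eτ hgen
  set A := τ ⟨g, hgH⟩ with hA
  have hAg : plane h A = σ g := hτ _
  have hne : (![sympForm m F u f, sympForm m F e u] : Fin 2 → F) ≠ 0 := fun e0 => hu (by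
    simpa using congrFun e0 1)
  have hApel : Pel p A := pel_of_fix A hne (by rw [plane_coord h, hAg, hfix])
  obtain ⟨k, hk⟩ := hApel
  have : (⟨g, hgH⟩ : H) ^ p ^ k ∈ τ.ker := by rw [MonoidHom.mem_ker, map_pow, ← hA, hk]
  rw [hbot, Subgroup.mem_bot] at this
  exact ⟨k, congrArg Subtype.val this⟩

end Cfsg.Agent.SpMult50
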