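import Cfsg.Agent.Lib.Symplectic.Card
import Cfsg.Agent.Lib.Schur.Transfer
import Cfsg.Agent.CharB.PSLMult.Unitri

/-!
The radical `Q` of a point stabiliser of the symplectic group, and the reduction of the `p`-part of
the multiplier to a normalised complement over `Q` in a central extension (helper50).
-/

set_option autoImplicit false

namespace Cfsg.Agent.SpMult50

open Matrix Cfsg.Agent.Symplectic Cfsg.Agent.CharB.PSLMult
open scoped commutatorElement

universe v

variable {m : ℕ} {F : Type v} [Field F]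

theorem eI_orth {j : Fin m} {v : Vec m F} (hv : v ∈ supp ({j} : Finset (Fin m))) :
    sympForm m F (eI j) v = 0 := by
  rw [sympForm_eI_left, (hv j (Finset.mem_singleton_self j)).2, neg_zero]

theorem eI_orth' {j : Fin m} {v : Vec m F} (hv : v ∈ supp ({j} : Finset (Fin m))) :
    sympForm m F v (eI j) = 0 := by
  rw [sympForm_swap, eI_orth hv, neg_zero]

theorem fI_orth {j : Fin m} {v : Vec m F} (hv : v ∈ supp ({j} : Finset (Fin m))) :
    sympForm m F (fI j) v = 0 := by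
  rw [sympForm_fI_left, (hv j (Finset.mem_singleton_self j)).1]

theorem fI_orth' {j : Fin m} {v : Vec m F} (hv : v ∈ supp ({j} : Finset (Fin m))) :
    sympForm m F v (fI j) = 0 := by
  rw [sympForm_swap, fI_orth hv, neg_zero]

theorem supp_insert_le_singleton {S : Finset (Fin m)} {j : Fin m} {v : Vec m F}
    (hv : v ∈ supp (insert j S)) : v ∈ supp ({j} : Finset (Fin m)) :=
  supp_anti (Finset.singleton_subset_iff.2 (Finset.mem_insert_self j S)) hv

/-- The element of `Q` of a vector. -/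
def qN (j : Fin m) (v : Vec m F) : Sp m F := sh (eI j) v 1

/-- The long root element. -/
def qZ (j : Fin m) (c : F) : Sp m F := Symplectic.tv (eI j) c

theorem qN_smul {j : Fin m} {v : Vec m F} (hv : v ∈ supp ({j} : Finset (Fin m))) (x : Vec m F) :
    qN j v • x = x + sympForm m F x v • eI j + sympForm m F x (eI j) • v := by
  rw [qN, sh_smul (eI_orth hv)]; simp

theorem qZ_smul (j : Fin m) (c : F) (x : Vec m F) :
    qZ j c • x = x + (c * sympForm m F x (eI j)) • eI j := tv_smul _ _ _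

theorem qN_zero (j : Fin m) : qN (F := F) j 0 = 1 :=
  eq_of_smul_eq fun x => by rw [qN_smul (Submodule.zero_mem _), one_smul]; simp

theorem qN_mul {j : Fin m} {v w : Vec m F} (hv : v ∈ supp ({j} : Finset (Fin m)))
    (hw : w ∈ supp ({j} : Finset (Fin m))) :
    qN j v * qN j w = qN j (v + w) * qZ j (sympForm m F w v) :=
  eq_of_smul_eq fun x => by
    rw [mul_smul, mul_smul, qN_smul hw, qN_smul hv, qZ_smul, qN_smul (add_mem hv hw)]
    simp only [sympForm_add_left, sympForm_add_right, sympForm_smul_left, sympForm_self,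
      eI_orth hv, eI_orth hw, eI_orth' hw]
    module

theorem qZ_mul (j : Fin m) (c d : F) : qZ j c * qZ j d = qZ j (c + d) := tv_mul_tv _ _ _

theorem qZ_zero (j : Fin m) : qZ (F := F) j 0 = 1 := tv_zero _

theorem qZ_inv (j : Fin m) (c : F) : (qZ j c)⁻¹ = qZ j (-c) := Symplectic.tv_inv _ _

theorem qN_qZ_comm {j : Fin m} {v : Vec m F} (hv : v ∈ supp ({j} : Finset (Fin m))) (c : F) :
    Commute (qN j v) (qZ j c) :=
  eq_of_smul_eq fun x => by
    rw [mul_smul, mul_smul, qN_smul hv, qN_smul hv, qZ_smul, qZ_smul]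
    simp only [sympForm_add_left, sympForm_smul_left, sympForm_self, eI_orth hv, eI_orth' hv]
    module

theorem qN_inv {j : Fin m} {v : Vec m F} (hv : v ∈ supp ({j} : Finset (Fin m))) :
    (qN j v)⁻¹ = qN j (-v) := by
  refine inv_eq_of_mul_eq_one_right ?_
  rw [qN_mul hv (neg_mem hv), add_neg_cancel, qN_zero, ← neg_one_smul F v, sympForm_smul_left,
    sympForm_self, mul_zero, qZ_zero, mul_one]

/-- The coordinates of an element of `Q`. -/
theorem qNZ_smul_fI {j : Fin m} {v : Vec m F} (hv : v ∈ supp ({j} : Finset (Fin m))) (c : F) :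
    (qN j v * qZ j c) • (fI j : Vec m F) = fI j + c • eI j + v := by
  rw [mul_smul, qZ_smul, sympForm_fI_eI, mul_one, qN_smul hv]
  simp only [sympForm_add_left, sympForm_smul_left, sympForm_self, sympForm_fI_eI, fI_orth hv,
    eI_orth hv]
  module

theorem qNZ_injective {j : Fin m} {v w : Vec m F} (hv : v ∈ supp ({j} : Finset (Fin m)))
    (hw : w ∈ supp ({j} : Finset (Fin m))) {c d : F} (h : qN j v * qZ j c = qN j w * qZ j d) :
    v = w ∧ c = d := by
  have e := congrArg (fun g : Sp m F => g • (fI j : Vec m F)) h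
  simp only [qNZ_smul_fI hv, qNZ_smul_fI hw] at e
  have hc : c = d := by
    have := congrArg (fun x => sympForm m F (fI j) x) e
    simpa [sympForm_add_right, sympForm_smul_right, sympForm_fI_eI, fI_orth hv, fI_orth hw]
      using this
  subst hc
  exact ⟨add_left_cancel e, rfl⟩

theorem conj_qN {j : Fin m} {k : Sp m F} (hk : k • (eI j : Vec m F) = eI j) (v : Vec m F) :
    k * qN j v * k⁻¹ = qN j (k • v) := by
  have h : ∀ a b c : Sp m F, k * (a * b * c) * k⁻¹ = (k * a * k⁻¹) * (k * b * k⁻¹) * (k * c * k⁻¹) :=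
    fun a b c => by group
  rw [qN, qN, sh, sh, h, conj_tv, conj_tv, conj_tv, smul_add, hk]

theorem conj_qZ {j : Fin m} {k : Sp m F} (hk : k • (eI j : Vec m F) = eI j) (c : F) :
    k * qZ j c * k⁻¹ = qZ j c := by
  rw [qZ, conj_tv, hk]

/-- The part of `Q` supported outside `S`. -/
def Qg (S : Finset (Fin m)) (j : Fin m) : Subgroup (Sp m F) where
  carrier := {g | ∃ v ∈ (supp (insert j S) : Submodule F (Vec m F)), ∃ c : F, g = qN j v * qZ j c}
  one_mem' := ⟨0, zero_mem _, 0, by rw [qN_zero, qZ_zero, one_mul]⟩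
  mul_mem' := by
    rintro _ _ ⟨v, hv, c, rfl⟩ ⟨w, hw, d, rfl⟩
    have hv' := supp_insert_le_singleton hv
    have hw' := supp_insert_le_singleton hw
    refine ⟨v + w, add_mem hv hw, sympForm m F w v + (c + d), ?_⟩
    calc qN j v * qZ j c * (qN j w * qZ j d) = qN j v * (qZ j c * qN j w) * qZ j d := by group
      _ = qN j v * qN j w * (qZ j c * qZ j d) := by rw [← (qN_qZ_comm hw' c).eq]; group
      _ = _ := by rw [qN_mul hv' hw', qZ_mul, mul_assoc, qZ_mul]
  inv_mem' := by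
    rintro _ ⟨v, hv, c, rfl⟩
    have hv' := supp_insert_le_singleton hv
    refine ⟨-v, neg_mem hv, -c, ?_⟩
    rw [_root_.mul_inv_rev, qN_inv hv', qZ_inv, ← (qN_qZ_comm (neg_mem hv') (-c)).eq]

theorem mem_Qg {S : Finset (Fin m)} {j : Fin m} {g : Sp m F} :
    g ∈ Qg S j ↔ ∃ v ∈ (supp (insert j S) : Submodule F (Vec m F)), ∃ c : F,
      g = qN j v * qZ j c := Iff.rfl

theorem conj_mem_Qg {S : Finset (Fin m)} {j : Fin m} {k g : Sp m F}
    (hk : k ∈ fixPairs (insert j S)) (hg : g ∈ Qg S j) : k * g * k⁻¹ ∈ Qg S j := by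
  obtain ⟨v, hv, c, rfl⟩ := hg
  obtain ⟨he, -⟩ := mem_fixPairs.1 hk j (Finset.mem_insert_self j S)
  refine ⟨k • v, smul_mem_supp hk hv, c, ?_⟩
  rw [← conj_qN he, show k * (qN j v * qZ j c) * k⁻¹ = (k * qN j v * k⁻¹) * (k * qZ j c * k⁻¹) by group,
    conj_qZ he]

theorem Qg_inf {S : Finset (Fin m)} {j : Fin m} {g : Sp m F} (hg : g ∈ Qg S j)
    (hg' : g ∈ fixPairs (insert j S)) : g = 1 := by
  obtain ⟨v, hv, c, rfl⟩ := hg
  have hv' := supp_insert_le_singleton hv
  obtain ⟨-, hf⟩ := mem_fixPairs.1 hg' j (Finset.mem_insert_self j S)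
  have h1 : qN j v * qZ j c = qN j 0 * qZ j 0 := by
    have hf' : (qN j v * qZ j c) • (fI j : Vec m F) = fI j := hf
    rw [qNZ_smul_fI hv', add_assoc, add_eq_left] at hf'
    have hc : c = 0 := by
      have := congrArg (fun x => sympForm m F (fI j) x) hf'
      simpa [sympForm_add_right, sympForm_smul_right, sympForm_fI_eI, fI_orth hv'] using this
    subst hc
    rw [zero_smul, zero_add] at hf'
    rw [hf']
  rw [h1, qN_zero, qZ_zero, one_mul]

theorem tv_eI_mem_fixPairs {S : Finset (Fin m)} {j : Fin m} (hj : j ∉ S) (c : F) :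
    qZ j c ∈ fixPairs S :=
  tvGroup_le_fixPairs S (tv_mem_tvGroup (eI_mem_supp hj) c)

theorem Qg_le_fixPairs {S : Finset (Fin m)} {j : Fin m} (hj : j ∉ S) :
    (Qg S j : Subgroup (Sp m F)) ≤ fixPairs S := by
  rintro _ ⟨v, hv, c, rfl⟩
  have hvS : v ∈ supp S := supp_anti (Finset.subset_insert j S) hv
  refine mul_mem ?_ (tv_eI_mem_fixPairs hj c)
  exact tvGroup_le_fixPairs S (mul_mem (mul_mem (tv_mem_tvGroup (add_mem (eI_mem_supp hj) hvS) _)
    (tv_mem_tvGroup (eI_mem_supp hj) _)) (tv_mem_tvGroup hvS _))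

theorem Qg_le_empty {S : Finset (Fin m)} {j : Fin m} : (Qg S j : Subgroup (Sp m F)) ≤ Qg ∅ j := by
  rintro _ ⟨v, hv, c, rfl⟩
  exact ⟨v, supp_anti (Finset.insert_subset_insert j (Finset.empty_subset S)) hv, c, rfl⟩

theorem card_Qg [Fintype F] {q : ℕ} (hF : Fintype.card F = q) (S : Finset (Fin m)) (j : Fin m) :
    Nat.card (Qg S j : Subgroup (Sp m F)) = q ^ (2 * (insert j S)ᶜ.card + 1) := by
  rw [pow_succ, ← card_supp hF (insert j S), ← hF, ← Nat.card_eq_fintype_card (α := F),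
    ← Nat.card_prod]
  let W : Submodule F (Vec m F) := supp (insert j S)
  let φ : W × F → (Qg S j : Subgroup (Sp m F)) := fun p =>
    ⟨qN j p.1.1 * qZ j p.2, mem_Qg.2 ⟨p.1.1, p.1.2, p.2, rfl⟩⟩
  have hφ : Function.Bijective φ := by
    refine ⟨?_, ?_⟩
    · rintro ⟨⟨v, hv⟩, c⟩ ⟨⟨w, hw⟩, d⟩ h
      obtain ⟨h1, h2⟩ := qNZ_injective (supp_insert_le_singleton hv)
        (supp_insert_le_singleton hw) (congrArg Subtype.val h)
      exact Prod.ext (Subtype.ext h1) h2
    · rintro ⟨g, hg⟩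
      obtain ⟨v, hv, c, rfl⟩ := mem_Qg.1 hg
      exact ⟨(⟨v, hv⟩, c), rfl⟩
  exact (Nat.card_congr (Equiv.ofBijective φ hφ)).symm

variable {Γ : Type v} [Group Γ] {σ : Γ →* Sp m F}

/-- A complement over `Q`, normalised by the preimage of the stabiliser of the pair `j`. -/
def HasQComplement (σ : Γ →* Sp m F) (j : Fin m) : Prop :=
  ∃ X : Subgroup Γ, (∀ x ∈ X, σ x = 1 → x = 1) ∧ X.map σ = Qg ∅ j ∧
    ∀ k, σ k ∈ fixPairs ({j} : Finset (Fin m)) → ∀ x ∈ X, k * x * k⁻¹ ∈ X

theorem exists_unipotent [Fintype F] {q : ℕ} (hF : Fintype.card F = q)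
    (hQ : ∀ j : Fin m, HasQComplement σ j) :
    ∀ (k : ℕ) (S : Finset (Fin m)), Sᶜ.card = k → ∃ H : Subgroup Γ,
      H ≤ (fixPairs S).comap σ ∧ (∀ h ∈ H, σ h = 1 → h = 1) ∧ Nat.card H = q ^ (k ^ 2) := by
  intro k
  induction k with
  | zero => exact fun S _ => ⟨⊥, bot_le, fun h hh _ => Subgroup.mem_bot.1 hh, by simp⟩
  | succ k ih =>
    intro S hS
    obtain ⟨j, hj⟩ := Finset.card_pos.1 (by omega : 0 < Sᶜ.card)
    rw [Finset.mem_compl] at hj
    have hins : (insert j S)ᶜ.card = k := by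
      rw [Finset.compl_insert, Finset.card_erase_of_mem (Finset.mem_compl.2 hj), hS]
      rfl
    obtain ⟨H, hH, hH1, hHc⟩ := ih _ hins
    obtain ⟨X, hX1, hX2, hX3⟩ := hQ j
    set Y : Subgroup Γ := X ⊓ (Qg S j).comap σ with hY
    have hnorm : ∀ h ∈ H, ∀ x ∈ Y, h * x * h⁻¹ ∈ Y := by
      rintro h hh x ⟨hxX, hxQ⟩
      refine ⟨hX3 h ?_ x hxX, ?_⟩
      · exact mem_fixPairs.2 fun i hi =>
          mem_fixPairs.1 (hH hh) i (by rw [Finset.mem_singleton.1 hi]; exact Finset.mem_insert_self _ _)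
      · show σ (h * x * h⁻¹) ∈ Qg S j
        rw [map_mul, map_mul, map_inv]
        exact conj_mem_Qg (hH hh) hxQ
    have hdis : ∀ x ∈ Y, ∀ h ∈ H, σ x * σ h = 1 → σ x = 1 := by
      rintro x ⟨-, hxQ⟩ h hh e
      refine Qg_inf hxQ ?_
      rw [eq_inv_of_mul_eq_one_left e]
      exact inv_mem (hH hh)
    have hY1 : ∀ x ∈ Y, σ x = 1 → x = 1 := fun x hx => hX1 x hx.1
    obtain ⟨g1, -, g3⟩ := glue σ hnorm hY1 hH1 hdis
    refine ⟨Y ⊔ H, sup_le ?_ ?_, g1, ?_⟩
    · exact inf_le_right.trans (Subgroup.comap_mono (Qg_le_fixPairs hj))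
    · exact hH.trans (Subgroup.comap_mono fun g hg => mem_fixPairs.2 fun i hi =>
        mem_fixPairs.1 hg i (Finset.mem_insert_of_mem hi))
    · have hYc : Nat.card Y = Nat.card (Qg S j : Subgroup (Sp m F)) := by
        refine Nat.card_congr (Equiv.ofBijective
          (fun y : Y => (⟨σ y, y.2.2⟩ : (Qg S j : Subgroup (Sp m F)))) ⟨?_, ?_⟩)
        · rintro ⟨a, ha⟩ ⟨b, hb⟩ e
          have e' : σ a = σ b := congrArg Subtype.val e
          exact Subtype.ext (mul_inv_eq_one.1 (hY1 _ (mul_mem ha (inv_mem hb)) (by simp [e'])))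
        · rintro ⟨g, hg⟩
          obtain ⟨x, hx, rfl⟩ : g ∈ X.map σ := hX2 ▸ Qg_le_empty hg
          exact ⟨⟨x, hx, hg⟩, rfl⟩
      rw [g3, hYc, hHc, card_Qg hF, hins, ← pow_add]
      congr 1
      ring

/-- The characteristic does not divide the multiplier, given complements over every `Q`. -/
theorem not_dvd_card_ker [Fintype F] [Finite Γ] {q p : ℕ} (hF : Fintype.card F = q) [CharP F p]
    (hp : p.Prime) (hσ : Cfsg.IsStemExtension σ) (hQ : ∀ j : Fin m, HasQComplement σ j) :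
    ¬ p ∣ Nat.card σ.ker := by
  intro hd
  have := Fact.mk hp
  obtain ⟨⟨w, hw⟩, hord⟩ := exists_prime_orderOf_dvd_card' p hd
  rw [Subgroup.orderOf_mk] at hord
  have E : CEx σ := ⟨hσ.1, hσ.2.1⟩
  obtain ⟨H, -, hinj, hcard⟩ := exists_unipotent hF hQ m ∅ (by simp)
  set U := H.map σ with hU
  have hUc : Nat.card U = q ^ (m ^ 2) := by
    rw [← hcard]
    refine (Nat.card_congr (Equiv.ofBijective (fun h : H => (⟨σ h, h, h.2, rfl⟩ : U)) ⟨?_, ?_⟩)).symm
    · rintro ⟨a, ha⟩ ⟨b, hb⟩ e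
      have e' : σ a = σ b := congrArg Subtype.val e
      exact Subtype.ext (mul_inv_eq_one.1 (hinj _ (mul_mem ha (inv_mem hb)) (by simp [e'])))
    · rintro ⟨_, a, ha, rfl⟩
      exact ⟨⟨a, ha⟩, rfl⟩
  have hq0 : 0 < q := hF ▸ Fintype.card_pos
  have hidx := U.card_mul_index
  rw [hUc, card_Sp hF] at hidx
  have hidx' := Nat.eq_of_mul_eq_mul_left (pow_pos hq0 _) hidx
  have hpq : p ∣ q := by
    obtain ⟨e, -, he⟩ := FiniteField.card F p
    rw [← hF, he]
    exact dvd_pow_self _ (by positivity)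
  have hnd : ¬ p ∣ U.index := by
    rw [hidx']
    intro h
    obtain ⟨i, -, hi⟩ := (Prime.dvd_finsetProd_iff hp.prime _).1 h
    have h1 : 1 ≤ q ^ (2 * (i + 1)) := Nat.one_le_pow _ _ hq0
    have := Nat.dvd_sub (dvd_pow hpq (show 2 * (i + 1) ≠ 0 by omega)) hi
    rw [Nat.sub_sub_self h1] at this
    exact hp.not_dvd_one this
  have hmem := Cfsg.Agent.Schur.pow_index_mem_commutator (U.comap σ) (hσ.2.1 hw) (hσ.2.2 hw)
  rw [Subgroup.map_subtype_commutator, Subgroup.index_comap_of_surjective U hσ.1] at hmem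
  have hle : ⁅U.comap σ, U.comap σ⁆ ≤ H := by
    rw [Subgroup.commutator_le]
    intro a ha b hb
    obtain ⟨a', ha', ea⟩ := ha
    obtain ⟨b', hb', eb⟩ := hb
    rw [E.cm_eq, ← ea, ← eb, ← E.cm_eq, commutatorElement_def]
    exact mul_mem (mul_mem (mul_mem ha' hb') (inv_mem ha')) (inv_mem hb')
  have h1 := hinj _ (hle hmem) (by rw [map_pow, hw, one_pow])
  exact hnd (hord ▸ orderOf_dvd_of_pow_eq_one h1)

end Cfsg.Agent.SpMult50
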