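import Cfsg.Agent.Lib.Symplectic.Basic
import Mathlib.Data.ZMod.Basic

/-!
Tables: eight-dimensional Clifford generators over the field of three elements, and the 63 root lines
of type `E7` labelled by the nonzero vectors of a six-dimensional symplectic space over two elements
(helper50).
-/

set_option autoImplicit false

namespace Cfsg.Agent.SpMult50

open Matrix Cfsg.Agent.Symplectic

/-- The entries of the Clifford generators. -/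
def gTab : List (List (List ℕ)) := [
  [[0, 2, 0, 0, 0, 0, 0, 0], [1, 0, 0, 0, 0, 0, 0, 0], [0, 0, 0, 0, 2, 0, 0, 0], [0, 0, 0, 0, 0, 0, 0, 2], [0, 0, 1, 0, 0, 0, 0, 0], [0, 0, 0, 0, 0, 0, 2, 0], [0, 0, 0, 0, 0, 1, 0, 0], [0, 0, 0, 1, 0, 0, 0, 0]],
  [[0, 0, 2, 0, 0, 0, 0, 0], [0, 0, 0, 0, 1, 0, 0, 0], [1, 0, 0, 0, 0, 0, 0, 0], [0, 0, 0, 0, 0, 2, 0, 0], [0, 2, 0, 0, 0, 0, 0, 0], [0, 0, 0, 1, 0, 0, 0, 0], [0, 0, 0, 0, 0, 0, 0, 2], [0, 0, 0, 0, 0, 0, 1, 0]],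
  [[0, 0, 0, 2, 0, 0, 0, 0], [0, 0, 0, 0, 0, 0, 0, 1], [0, 0, 0, 0, 0, 1, 0, 0], [1, 0, 0, 0, 0, 0, 0, 0], [0, 0, 0, 0, 0, 0, 2, 0], [0, 0, 2, 0, 0, 0, 0, 0], [0, 0, 0, 0, 1, 0, 0, 0], [0, 2, 0, 0, 0, 0, 0, 0]],
  [[0, 0, 0, 0, 2, 0, 0, 0], [0, 0, 2, 0, 0, 0, 0, 0], [0, 1, 0, 0, 0, 0, 0, 0], [0, 0, 0, 0, 0, 0, 1, 0], [1, 0, 0, 0, 0, 0, 0, 0], [0, 0, 0, 0, 0, 0, 0, 2], [0, 0, 0, 2, 0, 0, 0, 0], [0, 0, 0, 0, 0, 1, 0, 0]],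
  [[0, 0, 0, 0, 0, 2, 0, 0], [0, 0, 0, 0, 0, 0, 1, 0], [0, 0, 0, 2, 0, 0, 0, 0], [0, 0, 1, 0, 0, 0, 0, 0], [0, 0, 0, 0, 0, 0, 0, 1], [1, 0, 0, 0, 0, 0, 0, 0], [0, 2, 0, 0, 0, 0, 0, 0], [0, 0, 0, 0, 2, 0, 0, 0]],
  [[0, 0, 0, 0, 0, 0, 2, 0], [0, 0, 0, 0, 0, 2, 0, 0], [0, 0, 0, 0, 0, 0, 0, 1], [0, 0, 0, 0, 2, 0, 0, 0], [0, 0, 0, 1, 0, 0, 0, 0], [0, 1, 0, 0, 0, 0, 0, 0], [1, 0, 0, 0, 0, 0, 0, 0], [0, 0, 2, 0, 0, 0, 0, 0]],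
  [[0, 0, 0, 0, 0, 0, 0, 2], [0, 0, 0, 2, 0, 0, 0, 0], [0, 0, 0, 0, 0, 0, 2, 0], [0, 1, 0, 0, 0, 0, 0, 0], [0, 0, 0, 0, 0, 2, 0, 0], [0, 0, 0, 0, 1, 0, 0, 0], [0, 0, 1, 0, 0, 0, 0, 0], [1, 0, 0, 0, 0, 0, 0, 0]]
]

/-- The root of each label. -/
def vTab : List (List ℕ) := [
  [0, 0, 0, 0, 0, 0, 0], [1, 0, 0, 0, 0, 0, 0], [0, 1, 0, 0, 0, 0, 0], [0, 0, 0, 1, 0, 0, 0],
  [0, 0, 0, 0, 1, 0, 0], [0, 0, 0, 0, 0, 1, 0], [0, 0, 1, 0, 0, 0, 0], [0, 0, 0, 0, 0, 0, 1],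
  [2, 0, 0, 2, 0, 2, 2], [2, 0, 0, 1, 0, 1, 1], [2, 0, 0, 2, 0, 1, 1], [2, 0, 0, 1, 0, 2, 2],
  [2, 0, 0, 1, 0, 2, 1], [2, 0, 0, 2, 0, 1, 2], [2, 0, 0, 1, 0, 1, 2], [2, 0, 0, 2, 0, 2, 1],
  [0, 2, 2, 2, 0, 0, 1], [0, 2, 1, 2, 0, 0, 2], [0, 2, 1, 1, 0, 0, 2], [0, 2, 2, 1, 0, 0, 1],
  [0, 2, 2, 1, 0, 0, 2], [0, 2, 1, 1, 0, 0, 1], [0, 2, 1, 2, 0, 0, 1], [0, 2, 2, 2, 0, 0, 2],
  [2, 2, 1, 0, 0, 1, 0], [2, 1, 2, 0, 0, 2, 0], [2, 1, 1, 0, 0, 1, 0], [2, 2, 2, 0, 0, 2, 0],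
  [2, 1, 2, 0, 0, 1, 0], [2, 2, 1, 0, 0, 2, 0], [2, 2, 2, 0, 0, 1, 0], [2, 1, 1, 0, 0, 2, 0],
  [0, 0, 2, 0, 2, 1, 2], [0, 0, 2, 0, 1, 2, 2], [0, 0, 2, 0, 2, 2, 1], [0, 0, 2, 0, 1, 1, 1],
  [0, 0, 2, 0, 1, 1, 2], [0, 0, 2, 0, 2, 2, 2], [0, 0, 2, 0, 1, 2, 1], [0, 0, 2, 0, 2, 1, 1],
  [2, 0, 2, 1, 1, 0, 0], [2, 0, 1, 2, 2, 0, 0], [2, 0, 1, 1, 2, 0, 0], [2, 0, 2, 2, 1, 0, 0],
  [2, 0, 2, 1, 2, 0, 0], [2, 0, 1, 2, 1, 0, 0], [2, 0, 1, 1, 1, 0, 0], [2, 0, 2, 2, 2, 0, 0],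
  [0, 2, 0, 1, 2, 2, 0], [0, 2, 0, 1, 1, 1, 0], [0, 2, 0, 2, 1, 1, 0], [0, 2, 0, 2, 2, 2, 0],
  [0, 2, 0, 1, 1, 2, 0], [0, 2, 0, 1, 2, 1, 0], [0, 2, 0, 2, 2, 1, 0], [0, 2, 0, 2, 1, 2, 0],
  [2, 1, 0, 0, 2, 0, 1], [2, 2, 0, 0, 1, 0, 2], [2, 2, 0, 0, 2, 0, 1], [2, 1, 0, 0, 1, 0, 2],
  [2, 1, 0, 0, 1, 0, 1], [2, 2, 0, 0, 2, 0, 2], [2, 2, 0, 0, 1, 0, 1], [2, 1, 0, 0, 2, 0, 2]
]

/-- The Clifford generators. -/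
def gam (i : Fin 7) : Matrix (Fin 8) (Fin 8) (ZMod 3) :=
  Matrix.of fun r c => (((((gTab.getD i []).getD r []).getD c 0 : ℕ)) : ZMod 3)

/-- The root of a label. -/
def vt (a : Fin 64) (k : Fin 7) : ZMod 3 := (((vTab.getD a []).getD k 0 : ℕ) : ZMod 3)

/-- Inner product. -/
def dot7 (x y : Fin 7 → ZMod 3) : ZMod 3 :=
  x 0 * y 0 + x 1 * y 1 + x 2 * y 2 + x 3 * y 3 + x 4 * y 4 + x 5 * y 5 + x 6 * y 6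

/-- The reflection in a vector of norm one. -/
def refl7 (a x : Fin 7 → ZMod 3) : Fin 7 → ZMod 3 := fun k => x k + dot7 a x * a k

/-- The symplectic form on labels. -/
def omC (a b : Fin 64) : Bool :=
  ((((a : ℕ).testBit 3 && (b : ℕ).testBit 0) != ((a : ℕ).testBit 0 && (b : ℕ).testBit 3)) !=
    (((a : ℕ).testBit 4 && (b : ℕ).testBit 1) != ((a : ℕ).testBit 1 && (b : ℕ).testBit 4))) !=
    (((a : ℕ).testBit 5 && (b : ℕ).testBit 2) != ((a : ℕ).testBit 2 && (b : ℕ).testBit 5))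

/-- The action of the transvection of a label. -/
def actC (a b : Fin 64) : Fin 64 :=
  if omC a b then Fin.ofNat 64 ((a : ℕ) ^^^ (b : ℕ)) else b

theorem gam_rel : ∀ i j : Fin 7, gam i * gam j + gam j * gam i = if i = j then 1 else 0 := by
  decide +kernel

theorem gam_prod : gam 0 * gam 1 * gam 2 * gam 3 * gam 4 * gam 5 * gam 6 = 2 • 1 := by
  decide +kernel

theorem gam_col : ∀ (i : Fin 7) (k : Fin 7), gam i k.succ 0 = if i = k then 1 else 0 := by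
  decide +kernel

theorem vt_zero : ∀ k, vt 0 k = 0 := by decide +kernel

theorem vt_norm : ∀ a : Fin 64, a ≠ 0 → dot7 (vt a) (vt a) = 1 := by decide +kernel

theorem vt_ref : ∀ a b : Fin 64, a ≠ 0 →
    (∀ k, refl7 (vt a) (vt b) k = vt (actC a b) k) ∨
      (∀ k, refl7 (vt a) (vt b) k = -vt (actC a b) k) := by
  decide +kernel

theorem vt_nonorth : ∀ a b : Fin 64, omC a b = true → dot7 (vt a) (vt b) ≠ 0 := by decide +kernel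

theorem vt_coord : ∀ i k : Fin 7, vt ((![1, 2, 6, 3, 4, 5, 7] : Fin 7 → Fin 64) i) k =
    if k = i then 1 else 0 := by
  decide +kernel

/-- Scalar of a bit. -/
def bitF (x : Bool) : ZMod 2 := if x then 1 else 0

/-- The vector of a label. -/
def cdec (a : Fin 64) : Vec 3 (ZMod 2) :=
  Sum.elim (fun i => bitF ((a : ℕ).testBit i)) (fun i => bitF ((a : ℕ).testBit (3 + i)))

/-- The label of a vector. -/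
def cenc (w : Vec 3 (ZMod 2)) : Fin 64 :=
  Fin.ofNat 64 ((w (Sum.inl 0)).val + 2 * (w (Sum.inl 1)).val + 4 * (w (Sum.inl 2)).val +
    8 * (w (Sum.inr 0)).val + 16 * (w (Sum.inr 1)).val + 32 * (w (Sum.inr 2)).val)

theorem cdec_actC : ∀ (a b : Fin 64) (k : Fin 3 ⊕ Fin 3), cdec (actC a b) k =
    cdec b k + bitF (omC a b) * cdec a k := by
  decide +kernel

theorem bitF_omC : ∀ a b : Fin 64, bitF (omC a b) =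
    (cdec b (Sum.inr 0) * cdec a (Sum.inl 0) - cdec b (Sum.inl 0) * cdec a (Sum.inr 0)) +
    (cdec b (Sum.inr 1) * cdec a (Sum.inl 1) - cdec b (Sum.inl 1) * cdec a (Sum.inr 1)) +
    (cdec b (Sum.inr 2) * cdec a (Sum.inl 2) - cdec b (Sum.inl 2) * cdec a (Sum.inr 2)) := by
  decide +kernel

theorem cdec_cenc_aux : ∀ x0 x1 x2 y0 y1 y2 : ZMod 2, ∀ k : Fin 3 ⊕ Fin 3,
    cdec (Fin.ofNat 64 (x0.val + 2 * x1.val + 4 * x2.val + 8 * y0.val + 16 * y1.val + 32 * y2.val)) k =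
      Sum.elim ![x0, x1, x2] ![y0, y1, y2] k := by
  decide +kernel

theorem cenc_cdec : ∀ a : Fin 64, cenc (cdec a) = a := by decide +kernel

end Cfsg.Agent.SpMult50
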